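import Cfsg.Agent.Lib.Fi22P.TypeTwo
import Cfsg.Agent.Lib.ThreeTransp.M23Model
import Cfsg.Agent.Lib.Cores.Components

/-!
# The hypotheses on a quotient isomorphic to the presented Fischer group `Fi22`
-/

set_option autoImplicit false
set_option linter.style.haveILetI false
set_option maxRecDepth 100000

namespace CfsgLib.LargeFischer.Outer

open CfsgLib.Fi22P CfsgLib.PresCert

variable {B : Type*} [Group B] [Finite B]

omit [Finite B] in
theorem class_of_equiv {A : Type*} [Group A] (e : A ≃* B) {E : Set A} (h : Cfsg.IsThreeTranspositionClass E) :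
    Cfsg.IsThreeTranspositionClass (e '' E) := by
  obtain ⟨⟨h1, h2⟩, ⟨d, hd, hE⟩, htop⟩ := h
  refine ⟨⟨?_, ?_⟩, ⟨e d, ⟨d, hd, rfl⟩, ?_⟩, ?_⟩
  · rintro _ ⟨x, hx, rfl⟩
    rw [MulEquiv.orderOf_eq, h1 x hx]
  · rintro _ ⟨x, hx, rfl⟩ _ ⟨y, hy, rfl⟩
    rw [← map_mul, ← map_pow, ← map_pow, map_eq_one_iff e e.injective, map_eq_one_iff e e.injective]
    exact h2 x hx y hy
  · ext y
    constructor
    · rintro ⟨x, hx, rfl⟩
      rw [hE] at hx
      exact MonoidHom.map_isConj e.toMonoidHom (show IsConj d x from hx)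
    · intro hy
      refine ⟨e.symm y, hE ▸ ?_, e.apply_symm_apply y⟩
      show IsConj d (e.symm y)
      have h := MonoidHom.map_isConj e.symm.toMonoidHom (show IsConj (e d) y from hy)
      rwa [MulEquiv.coe_toMonoidHom, e.symm_apply_apply] at h
  · show Subgroup.closure ((e.toMonoidHom : A →* B) '' E) = ⊤
    rw [← MonoidHom.map_closure, htop, Subgroup.map_top_of_surjective _ e.surjective]

/-- Everything asked of the quotient of the centraliser. -/
theorem fi22_data (e : B ≃* Cfsg.Spor.Fi22) :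
    (∃ E : Set B, Cfsg.IsThreeTranspositionClass E ∧ Cfsg.IsOfTypeM22 B E) ∧
    ∃ d' : B, orderOf d' = 2 ∧ Cfsg.IsQuasisimple ↥(Subgroup.centralizer ({d'} : Set B)) ∧
      (∃ (K : Type) (_ : Field K) (_ : Fintype K), Fintype.card K = 4 ∧
        ∃ _ : ((Subgroup.zpowers d').subgroupOf (Subgroup.centralizer ({d'} : Set B))).Normal,
          Nonempty (↥(Subgroup.centralizer ({d'} : Set B)) ⧸
            (Subgroup.zpowers d').subgroupOf (Subgroup.centralizer ({d'} : Set B)) ≃* Cfsg.PSU 6 K 2)) ∧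
      ∃ g, g * d' * g⁻¹ ∈ Subgroup.centralizer ({d'} : Set B) ∧ g * d' * g⁻¹ ≠ d' := by
  haveI := fi_le.1
  refine ⟨⟨e.symm '' transp, class_of_equiv e.symm transp_class,
    CfsgLib.M23.isOfTypeM22_equiv e.symm rfl TypeTwo.type22⟩, ?_⟩
  set d := e.symm fA with hdd
  have hd : orderOf d = 2 := by rw [hdd, MulEquiv.orderOf_eq, fA_order]
  haveI : Fintype (GaloisField 2 2) := Fintype.ofFinite _
  obtain ⟨F, iF, iF', hF, K⟩ : ∃ (F : Type) (_ : Field F) (_ : Fintype F) (_ : Fintype.card F = 4),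
      Nonempty (CfsgLib.J3.Fld F) :=
    ⟨GaloisField 2 2, inferInstance, inferInstance, by
      rw [Fintype.card_eq_nat_card, GaloisField.card 2 2 two_ne_zero]; norm_num, ⟨CfsgLib.He.fieldK⟩⟩
  obtain ⟨K⟩ := K
  haveI : IsSimpleGroup (Cfsg.PSU 6 F 2) :=
    CfsgLib.Classical.Unitary.isSimpleGroup_PSU (by rw [hF]; norm_num) (by norm_num) (by norm_num)
  set C := Subgroup.centralizer ({d} : Set B) with hCdef
  have hmap : (Subgroup.centralizer ({fA} : Set Cfsg.Spor.Fi22)).map e.symm.toMonoidHom = C := by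
    ext x
    rw [Subgroup.mem_map_equiv, Subgroup.mem_centralizer_singleton_iff, hCdef,
      Subgroup.mem_centralizer_singleton_iff, MulEquiv.symm_symm, ← e.symm.injective.eq_iff, map_mul, map_mul,
      e.symm_apply_apply]
  have hC := transp_centralizer (d := fA) mem_conjugatesOf_self K hF
  have hC' : Cfsg.IsNonsplitDoubleCover ↥C (Cfsg.PSU 6 F 2) :=
    double_cover_congr ((MulEquiv.subgroupCongr hmap.symm).trans (e.symm.subgroupMap _).symm) hC
  obtain ⟨e'⟩ := hC'.2.1
  have hP : ∃ a b : Cfsg.PSU 6 F 2, ¬ Commute a b := by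
    by_contra hcomm
    simp only [not_exists, not_not] at hcomm
    letI : CommGroup (Cfsg.PSU 6 F 2) := { (inferInstance : Group (Cfsg.PSU 6 F 2)) with mul_comm := hcomm }
    have hp := IsSimpleGroup.prime_card (α := Cfsg.PSU 6 F 2)
    have h1 := (Subgroup.center ↥C).card_mul_index
    rw [hC'.1, Subgroup.index_eq_card, Nat.card_congr e'.toEquiv, ← hmap,
      Subgroup.card_map_of_injective (f := e.symm.toMonoidHom) e.symm.injective, centralizer_fA, card_subH] at h1
    rw [show Nat.card (Cfsg.PSU 6 F 2) = 9196830720 by omega] at hp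
    exact absurd (hp.eq_one_or_self_of_dvd 2 (by norm_num)) (by norm_num)
  have hdC : d ∈ C := Subgroup.mem_centralizer_singleton_iff.2 rfl
  have hZ : Subgroup.center ↥C = (Subgroup.zpowers d).subgroupOf C := by
    rw [TypeTwo.centre_eq_zpowers hC'.1 (d := (⟨d, hdC⟩ : ↥C)) (by rw [← Subgroup.orderOf_coe]; exact hd)
      (Subgroup.mem_center_iff.2 fun x => Subtype.ext (Subgroup.mem_centralizer_singleton_iff.1 x.2))]
    ext x
    rw [Subgroup.mem_subgroupOf, Subgroup.mem_zpowers_iff, Subgroup.mem_zpowers_iff]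
    exact exists_congr fun n => by rw [Subtype.ext_iff]; simp
  haveI hn : ((Subgroup.zpowers d).subgroupOf C).Normal := hZ ▸ inferInstance
  refine ⟨d, hd, TypeTwo.quasisimple_of_cover hC' hP,
    ⟨F, iF, iF', hF, hn, ⟨(QuotientGroup.quotientMulEquivOfEq hZ.symm).trans e'⟩⟩, ?_⟩
  obtain ⟨g, hg, hgne⟩ := TypeTwo.not_weakly_closed
  have key : e.symm g * d * (e.symm g)⁻¹ = e.symm (g * fA * g⁻¹) := by simp [hdd]
  refine ⟨e.symm g, ?_, ?_⟩
  · rw [key, ← hCdef, ← hmap]
    exact Subgroup.mem_map_of_mem _ hg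
  · rw [key, hdd]
    exact fun h => hgne (e.symm.injective h)

end CfsgLib.LargeFischer.Outer
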