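import Cfsg.Agent.Lib.Fi22P.Out
import Cfsg.Agent.Lib.Fi22P.TypeTwo
import Cfsg.Prelude.Def_CaseTheorems

/-!
# A centraliser with a quasisimple subgroup of index two covering the Fischer group `Fi22`
-/

set_option autoImplicit false
set_option linter.style.haveILetI false

namespace CfsgLib.LargeFischer.Outer

open Subgroup

variable {G : Type*} [Group G]

/-- The covering data at the involution `t`. -/
structure Fi (t : G) where
  K : Subgroup ↥(centralizer ({t} : Set G))
  quasi : Cfsg.IsQuasisimple ↥K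
  index : K.index = 2
  norm : K.Normal
  ι : ↥K →* Cfsg.Spor.Fi22
  surj : Function.Surjective ι
  ker : ∀ k : ↥K, ι k = 1 ↔ ((k : ↥(centralizer ({t} : Set G))) : G) ∈ zpowers t
  t_mem : ∀ w : ↥(centralizer ({t} : Set G)), (w : G) ∈ zpowers t → w ∈ K
  cent : ∀ w : ↥(centralizer ({t} : Set G)), (∀ k ∈ K, w * k = k * w) → (w : G) ∈ zpowers t
  realise : ∀ β : MulAut Cfsg.Spor.Fi22, ∃ u : ↥(centralizer ({t} : Set G)), ∀ k : ↥K,
    ι ⟨u * k * u⁻¹, norm.conj_mem _ k.2 u⟩ = β (ι k)

theorem center_fi : Subgroup.center Cfsg.Spor.Fi22 = ⊥ := CfsgLib.Fi22P.TypeTwo.type22.1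

theorem exists_fi [Finite G] (t : G) (K : Subgroup ↥(centralizer ({t} : Set G))) (hq : Cfsg.IsQuasisimple ↥K)
    (hidx : K.index = 2) (htm : ∃ htc : t ∈ centralizer ({t} : Set G), (⟨t, htc⟩ : ↥(centralizer ({t} : Set G))) ∈ K)
    [hn : ((zpowers t).subgroupOf (centralizer ({t} : Set G))).Normal]
    (e : ↥(centralizer ({t} : Set G)) ⧸ (zpowers t).subgroupOf (centralizer ({t} : Set G)) ≃*
      MulAut Cfsg.Spor.Fi22) : Nonempty (Fi t) := by
  classical
  haveI : K.Normal := Subgroup.normal_of_index_eq_two hidx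
  haveI := CfsgLib.Fi22P.card_fi.1
  haveI : Finite (MulAut Cfsg.Spor.Fi22) :=
    Finite.of_injective (fun a : MulAut Cfsg.Spor.Fi22 => (a : Cfsg.Spor.Fi22 → Cfsg.Spor.Fi22)) DFunLike.coe_injective
  let π : ↥(centralizer ({t} : Set G)) →* MulAut Cfsg.Spor.Fi22 := e.toMonoidHom.comp (QuotientGroup.mk' _)
  have hπs : Function.Surjective π := e.surjective.comp (QuotientGroup.mk'_surjective _)
  have hπk : ∀ w : ↥(centralizer ({t} : Set G)), π w = 1 ↔ (w : G) ∈ zpowers t := fun w => by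
    show e (QuotientGroup.mk' _ w) = 1 ↔ _
    rw [map_eq_one_iff e e.injective, QuotientGroup.mk'_apply, QuotientGroup.eq_one_iff, Subgroup.mem_subgroupOf]
  obtain ⟨htc, ht⟩ := htm
  have htK : ∀ w : ↥(centralizer ({t} : Set G)), (w : G) ∈ zpowers t → w ∈ K := fun w hw => by
    obtain ⟨j, hj⟩ := mem_zpowers_iff.1 hw
    rw [show w = (⟨t, htc⟩ : ↥(centralizer ({t} : Set G))) ^ j from Subtype.ext (by simp [hj])]
    exact zpow_mem ht j
  set I := (MulAut.conj : Cfsg.Spor.Fi22 →* MulAut Cfsg.Spor.Fi22).range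
  have hI : I.index = 2 := by
    rw [← CfsgLib.Fi22P.Out.card_out, Subgroup.index_eq_card]
  haveI : I.Normal := Subgroup.normal_of_index_eq_two hI
  have hcommI : commutator (MulAut Cfsg.Spor.Fi22) ≤ I := by
    rw [_root_.commutator_def, Subgroup.commutator_le]
    intro x _ y _
    by_cases hx : x ∈ I <;> by_cases hy : y ∈ I <;>
      simp [commutatorElement_def, Subgroup.mul_mem_iff_of_index_two hI, hx, hy]
  have hle : K.map π ≤ I := by
    rintro _ ⟨k, hk, rfl⟩
    have h1 : (⟨k, hk⟩ : ↥K) ∈ commutator ↥K := by rw [hq.1.commutator_eq_top]; exact Subgroup.mem_top _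
    have h2 : π k ∈ (commutator ↥K).map (π.comp K.subtype) := ⟨_, h1, rfl⟩
    refine hcommI ?_
    rw [_root_.commutator_def, Subgroup.map_commutator] at h2
    exact Subgroup.commutator_mono le_top le_top h2
  have hπK : K.map π = I := by
    refine le_antisymm hle ?_
    have hker : π.ker ≤ K := fun w hw => htK w ((hπk w).1 hw)
    have h1 : (K.map π).index = 2 := by rw [Subgroup.index_map_eq K hπs hker, hidx]
    exact (Subgroup.eq_of_le_of_card_ge hle (by
      have a := (K.map π).card_mul_index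
      have b := I.card_mul_index
      rw [h1] at a
      rw [hI] at b
      omega)).ge
  have hinj : Function.Injective (MulAut.conj : Cfsg.Spor.Fi22 →* MulAut Cfsg.Spor.Fi22) := by
    rw [← MonoidHom.ker_eq_bot_iff, eq_bot_iff, ← center_fi]
    intro g hg
    refine Subgroup.mem_center_iff.2 fun x => ?_
    have := DFunLike.congr_fun (MonoidHom.mem_ker.1 hg) x
    simp only [MulAut.conj_apply, MulAut.one_apply] at this
    calc x * g = g * x * g⁻¹ * g := by rw [this]
      _ = g * x := by group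
  let ι : ↥K →* Cfsg.Spor.Fi22 := (MonoidHom.ofInjective hinj).symm.toMonoidHom.comp
    ((π.comp K.subtype).codRestrict I fun k => hle ⟨k, k.2, rfl⟩)
  have hιc : ∀ k : ↥K, MulAut.conj (ι k) = π k := fun k =>
    congrArg Subtype.val ((MonoidHom.ofInjective hinj).apply_symm_apply
      ((π.comp K.subtype).codRestrict I (fun k => hle ⟨k, k.2, rfl⟩) k))
  refine ⟨⟨K, hq, hidx, inferInstance, ι, fun g => ?_, fun k => ?_, htK, fun w hw => ?_, fun β => ?_⟩⟩
  · obtain ⟨k, hk, e'⟩ := hπK.ge ⟨g, rfl⟩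
    exact ⟨⟨k, hk⟩, hinj ((hιc ⟨k, hk⟩).trans e')⟩
  · rw [← hπk, ← hιc, map_eq_one_iff MulAut.conj hinj]
  · rw [← hπk]
    refine MulEquiv.ext fun x => ?_
    obtain ⟨k, hk, e'⟩ := hπK.ge ⟨x, rfl⟩
    have h1 : π w * MulAut.conj x = MulAut.conj x * π w := by rw [← e', ← map_mul, ← map_mul, hw k hk]
    have h2 : π w * MulAut.conj x = MulAut.conj (π w x) * π w := MulEquiv.ext fun y => by simp [map_mul, map_inv]
    exact hinj (mul_right_cancel (h2.symm.trans h1))
  · obtain ⟨u, hu⟩ := hπs β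
    refine ⟨u, fun k => hinj ?_⟩
    rw [hιc]
    show π (u * k * u⁻¹) = _
    rw [map_mul, map_mul, map_inv, hu, ← hιc]
    exact MulEquiv.ext fun y => by simp [map_mul, map_inv]

end CfsgLib.LargeFischer.Outer
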