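import Cfsg.Agent.Lib.LargeFischer.Thompson.Normaliser
import Cfsg.Agent.Lib.Golay.M24Sub

/-!
# The elementary group `2^11` as duads of the 24 points, with the normaliser acting as `M24`
-/

set_option autoImplicit false
set_option linter.unusedSectionVars false
set_option linter.style.haveILetI false
set_option linter.unusedSimpArgs false
set_option maxHeartbeats 1000000

open scoped Pointwise symmDiff

namespace CfsgLib.LargeFischer.Outer

open Subgroup QuadraticMap
open Cfsg (GolayPt)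
open CfsgLib.Schur.Tails.UFour (H4)
open CfsgLib.LargeFischer.Thompson (Ctx Ns Zs Pairing)

variable {G : Type*} [Group G] [Finite G] {z : G}

/-- A labelling of `A` by points with the normaliser acting on them through `ψ`. -/
structure Duads (z : G) (A : Subgroup G) (f : GolayPt → G)
    (ψ : ↥(Subgroup.normalizer (A : Set G)) →* Equiv.Perm GolayPt) : Prop where
  mem : ∀ p, f p ∈ A
  comm : ∀ x ∈ A, ∀ y ∈ A, x * y = y * x
  sq : ∀ x ∈ A, x * x = 1
  pair : ∀ a b, a ≠ b → f a * f b ∈ Ns z A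
  cover : ∀ x ∈ Ns z A, ∃ a b, a ≠ b ∧ f a * f b = x
  inj : ∀ a b a' b', a ≠ b → a' ≠ b' → f a * f b = f a' * f b' → (a' = a ∧ b' = b) ∨ (a' = b ∧ b' = a)
  equiv : ∀ (m : ↥(Subgroup.normalizer (A : Set G))) (a b : GolayPt),
    (m : G) * (f a * f b) * (m : G)⁻¹ = f (ψ m a) * f (ψ m b)
  range : ψ.range = Cfsg.M24
  ker : ∀ m : ↥(Subgroup.normalizer (A : Set G)), ψ m = 1 ↔ (m : G) ∈ A
  eight : ∀ a b : GolayPt, a ≠ b → ∃ p q r s u v w : GolayPt,
    ([a, b, p, q, r, s, u, v, w] : List GolayPt).Nodup ∧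
      f a * f p = f q * f r * (f s * f u) * (f v * f w)
  gen : ∀ x ∈ A, x = 1 ∨ (∃ a b, a ≠ b ∧ x = f a * f b) ∨
    ∀ p : GolayPt, ∃ q r s, ([p, q, r, s] : List GolayPt).Nodup ∧ x = f p * f q * (f r * f s)
  tet_uniq : ∀ p q r s q' r' s' : GolayPt, ([p, q, r, s] : List GolayPt).Nodup →
    ([p, q', r', s'] : List GolayPt).Nodup →
    f p * f q * (f r * f s) = f p * f q' * (f r' * f s') → ({p, q, r, s} : Finset GolayPt) = {p, q', r', s'}
  aut : ∀ α : ↥A ≃* ↥A, (∀ x : ↥A, (α x : G) ∈ Ns z A ↔ (x : G) ∈ Ns z A) →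
    ∃ m ∈ Subgroup.normalizer (A : Set G), ∀ x : ↥A, (α x : G) = m * (x : G) * m⁻¹

variable {Q : Subgroup (centralizer ({z} : Set G))} [Q.Normal] {V : Type*} [AddCommGroup V] [Module (ZMod 2) V]
  [DistribMulAction ((centralizer ({z} : Set G)) ⧸ Q) V] [Finite V] {q : QuadraticForm (ZMod 2) V} {π : ↥Q → V}
  {n : (centralizer ({z} : Set G)) ⧸ Q} {M : Subgroup ((centralizer ({z} : Set G)) ⧸ Q)} {φ : ↥M →* ↥H4}
  {s : V} {E : Subgroup ((centralizer ({z} : Set G)) ⧸ Q)} {D : AddSubgroup V}
  {A : Subgroup G} {Ab : Subgroup ((centralizer ({z} : Set G)) ⧸ Q)}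

theorem four_nodup {Ω : Type*} [DecidableEq Ω] {t : Finset Ω} (ht : t.card = 4) {p : Ω} (hp : p ∈ t) :
    ∃ q r s, ([p, q, r, s] : List Ω).Nodup ∧ t = {p, q, r, s} := by
  obtain ⟨q, r, s, h1, h2, h3, e⟩ := Finset.card_eq_three.1
    (show (t.erase p).card = 3 by rw [Finset.card_erase_of_mem hp, ht])
  have hq : p ≠ q := fun h => by
    have : p ∈ t.erase p := by rw [e]; simp [h]
    simp at this
  have hr : p ≠ r := fun h => by
    have : p ∈ t.erase p := by rw [e]; simp [h]
    simp at this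
  have hs : p ≠ s := fun h => by
    have : p ∈ t.erase p := by rw [e]; simp [h]
    simp at this
  exact ⟨q, r, s, by simp [hq, hr, hs, h1, h2, h3], by rw [← e, Finset.insert_erase hp]⟩

theorem exists_duads (c : Ctx Q q π n M φ s E D A Ab) :
    ∃ (f : GolayPt → G) (ψ : ↥(Subgroup.normalizer (A : Set G)) →* Equiv.Perm GolayPt), Duads z A f ψ := by
  classical
  set N := Subgroup.normalizer (A : Set G) with hN
  have hAN : A ≤ N := Subgroup.le_normalizer
  letI : CommGroup ↥A :=
    { (inferInstance : Group ↥A) with mul_comm := fun a b => Subtype.ext (c.comm a.2 b.2) }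
  obtain ⟨f, hfA, hpair, hcover⟩ := c.exists_labelling
  let NA : Set ↥A := {x | (x : G) ∈ Ns z A}
  let g : Fin 6 × Fin 4 → ↥A := fun p => ⟨f p, hfA p⟩
  have himg : ∀ S : Set G, S ⊆ (A : Set G) → ((Subtype.val : ↥A → G) ⁻¹' S).ncard = S.ncard := fun S hS =>
    Set.ncard_preimage_of_injective_subset_range Subtype.val_injective fun x hx => ⟨⟨x, hS hx⟩, rfl⟩
  have hP : Pairing NA g := by
    refine ⟨fun x => Subtype.ext (c.sq x.2), c.card, by simp, ?_, fun d hd => ?_, fun h => h.2.1 rfl,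
      fun a b hab => hpair a b hab, fun x hx => ?_⟩
    · rw [show NA = (Subtype.val : ↥A → G) ⁻¹' Ns z A from rfl, himg _ fun x hx => hx.1, c.Ns_counts.1]
    · rw [show {e | e ∈ NA ∧ d * e ∈ NA} = (Subtype.val : ↥A → G) ⁻¹' Thompson.nb z A (d : G) from rfl,
        himg _ fun x hx => hx.1.1, c.degree hd]
    · obtain ⟨a, b, hab, e⟩ := hcover _ hx
      exact ⟨a, b, hab, Subtype.ext e⟩
  obtain ⟨e, he⟩ := CfsgLib.Golay.iso_octads hP.cardPts hP.steiner
  let h : GolayPt → ↥A := fun p => g (e.symm p)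
  have hprod : ∀ S : Finset (Fin 6 × Fin 4), (S.image e).prod h = S.prod g := fun S => by
    rw [Finset.prod_image fun x _ y _ k => e.injective k]
    exact Finset.prod_congr rfl fun x _ => by simp [h]
  -- automorphisms preserving the 276 elements
  let Γ : Subgroup (MulAut ↥A) :=
    { carrier := {α | ∀ x : ↥A, α x ∈ NA ↔ x ∈ NA}
      one_mem' := fun x => Iff.rfl
      mul_mem' := fun {α β} hα hβ x => (hα (β x)).trans (hβ x)
      inv_mem' := fun {α} hα x => by
        have := (hα (α⁻¹ x)).symm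
        rwa [MulAut.apply_inv_self] at this }
  choose σ hσ using fun α : ↥Γ => hP.exists_perm (α : MulAut ↥A) α.2
  let S : ↥Γ →* Equiv.Perm (Fin 6 × Fin 4) := MonoidHom.mk' σ fun α β => hP.perm_unique fun a b => by
    show g (σ (α * β) a) * g (σ (α * β) b) = g (σ α (σ β a)) * g (σ α (σ β b))
    rw [← hσ (α * β), ← hσ α, ← hσ β]
    rfl
  let ω : ↥Γ →* Equiv.Perm GolayPt := e.permCongrHom.toMonoidHom.comp S
  have hω : ∀ (α : ↥Γ) (a b : GolayPt), (α : MulAut ↥A) (h a * h b) = h (ω α a) * h (ω α b) := fun α a b => by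
    have hx : ∀ x, e.symm (ω α x) = σ α (e.symm x) := fun x => e.symm_apply_apply _
    show (α : MulAut ↥A) (g (e.symm a) * g (e.symm b)) = g (e.symm (ω α a)) * g (e.symm (ω α b))
    rw [hx, hx, hσ]
  have hω24 : ω.range ≤ Cfsg.M24 := by
    rintro _ ⟨α, rfl⟩
    refine CfsgLib.Golay.smul_octads_mem_M24 _ fun o ho _ => ?_
    rw [← he] at ho ⊢
    obtain ⟨b, ⟨hb8, hb1⟩, rfl⟩ := ho
    refine ⟨b.image (σ α), ⟨?_, ?_⟩, ?_⟩
    · rw [Finset.card_image_of_injective _ (σ α).injective, hb8]
    · rw [hP.prod_image_perm (hσ α) (by rw [hb8]; norm_num), hb1, map_one]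
    · show (b.image (σ α)).image e = ω α • b.image e
      rw [Finset.smul_finset_def, Finset.image_image, Finset.image_image]
      refine Finset.image_congr fun u _ => ?_
      show e (σ α u) = e (σ α (e.symm (e u)))
      rw [e.symm_apply_apply]
  have hext : ∀ α β : ↥Γ, ω α = ω β → ∀ x : ↥A, (α : MulAut ↥A) x = (β : MulAut ↥A) x := fun α β hab x => by
    have hs : σ α = σ β := e.permCongrHom.injective hab
    obtain ⟨T, hT, -, rfl⟩ := hP.exhaust.1 x
    rw [← hP.prod_image_perm (hσ α) hT, ← hP.prod_image_perm (hσ β) hT, hs]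
  let conjA : ↥N →* MulAut ↥A := MonoidHom.mk'
    (fun m =>
      { toFun := fun x => ⟨(m : G) * x * (m : G)⁻¹, c.conj_mem m.2 x.2⟩
        invFun := fun x => ⟨(m : G)⁻¹ * x * ((m : G)⁻¹)⁻¹, c.conj_mem (inv_mem m.2) x.2⟩
        left_inv := fun x => Subtype.ext (by simp [mul_assoc])
        right_inv := fun x => Subtype.ext (by simp [mul_assoc])
        map_mul' := fun x y => Subtype.ext (by simp [mul_assoc]) })
    fun m w => MulEquiv.ext fun x => Subtype.ext (by simp [mul_assoc])
  let toΓ : ↥N →* ↥Γ := conjA.codRestrict Γ fun m x => ⟨fun hx => by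
      have := c.Ns_conj (inv_mem m.2) hx
      show (x : G) ∈ Ns z A
      simpa [conjA, mul_assoc] using this, fun hx => c.Ns_conj m.2 hx⟩
  let ψ : ↥N →* Equiv.Perm GolayPt := ω.comp toΓ
  have hker : ∀ m : ↥N, ψ m = 1 ↔ (m : G) ∈ A := fun m => by
    constructor
    · intro hm
      refine c.cent fun a ha => mul_inv_eq_iff_eq_mul.1 ?_
      exact congrArg Subtype.val (hext (toΓ m) 1 (by rw [map_one]; exact hm) ⟨a, ha⟩)
    · intro hm
      have h1 : toΓ m = 1 := Subtype.ext (MulEquiv.ext fun x => Subtype.ext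
        (mul_inv_eq_iff_eq_mul.2 (c.comm hm x.2)))
      show ω (toΓ m) = 1
      rw [h1, map_one]
  have hrange : ψ.range = Cfsg.M24 := by
    refine Subgroup.eq_of_le_of_card_ge (by rintro _ ⟨m, rfl⟩; exact hω24 ⟨toΓ m, rfl⟩) ?_
    have hk : ψ.ker = A.subgroupOf N := Subgroup.ext fun m => by
      rw [MonoidHom.mem_ker, Subgroup.mem_subgroupOf]
      exact hker m
    have h1 := ψ.ker.card_mul_index
    rw [Subgroup.index_ker, hk, Nat.card_congr (subgroupOfEquivOfLe hAN).toEquiv, c.card,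
      show Nat.card ↥N = _ from c.orbit_stab.symm, c.Zs_facts.1] at h1
    rw [CfsgLib.Golay.card_M24]
    omega
  have hval : ∀ l : List ↥A, ((l.prod : ↥A) : G) = (l.map Subtype.val).prod := fun l =>
    map_list_prod A.subtype l
  refine ⟨fun p => (h p : G), ψ, fun p => (h p).2, fun x hx y hy => c.comm hx hy, fun x hx => c.sq hx,
    fun a b hab => hpair _ _ fun k => hab (e.symm.injective k), fun x hx => ?_, fun a b a' b' hab hab' heq => ?_,
    fun m a b => congrArg Subtype.val (hω (toΓ m) a b), hrange, hker, fun a b hab => ?_, fun x hx => ?_,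
    fun p q r s q' r' s' h1 h2 heq => ?_, fun α hα => ?_⟩
  · obtain ⟨a, b, hab, k⟩ := hcover x hx
    exact ⟨e a, e b, fun k' => hab (e.injective k'), by simpa [h, g] using k⟩
  · have hn : e.symm a ≠ e.symm b := fun k => hab (e.symm.injective k)
    have hn' : e.symm a' ≠ e.symm b' := fun k => hab' (e.symm.injective k)
    have := hP.prod_inj (Finset.card_pair hn) (Finset.card_pair hn')
      (by rw [Finset.prod_pair hn, Finset.prod_pair hn']; exact Subtype.ext heq)
    have k1 : e.symm a' ∈ ({e.symm a, e.symm b} : Finset _) := this ▸ Finset.mem_insert_self _ _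
    have k2 : e.symm b' ∈ ({e.symm a, e.symm b} : Finset _) :=
      this ▸ Finset.mem_insert_of_mem (Finset.mem_singleton_self _)
    simp only [Finset.mem_insert, Finset.mem_singleton, EmbeddingLike.apply_eq_iff_eq] at k1 k2
    rcases k1 with k1 | k1 <;> rcases k2 with k2 | k2
    · exact absurd (k1.trans k2.symm) hab'
    · exact .inl ⟨k1, k2⟩
    · exact .inr ⟨k1, k2⟩
    · exact absurd (k1.trans k2.symm) hab'
  · -- an octad on `a` avoiding `b`
    obtain ⟨S5, -, hS5⟩ := Finset.exists_subset_card_eq (s := (Finset.univ : Finset (Fin 6 × Fin 4))) (n := 5) (by simp)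
    obtain ⟨o, ⟨⟨ho8, ho1⟩, -⟩, -⟩ := hP.steiner.2 S5 hS5
    obtain ⟨a₀, ha₀⟩ := Finset.card_pos.1 (show 0 < o.card by omega)
    obtain ⟨b₀, -, hb₀⟩ := Finset.exists_mem_notMem_of_card_lt_card (s := o) (t := Finset.univ) (by simp [ho8])
    obtain ⟨k, hk, hka, hkb⟩ := CfsgLib.Golay.M24_map_two (a := e a₀) (b := e b₀)
      (fun k => hb₀ (e.injective k ▸ ha₀)) hab
    obtain ⟨m, hm⟩ := (hrange.ge hk : k ∈ ψ.range)
    set o' := (o.image (σ (toΓ m))).image e
    have hmk : ∀ x, k (e x) = e (σ (toΓ m) x) := fun x => by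
      rw [← hm]
      show e (σ (toΓ m) (e.symm (e x))) = _
      rw [e.symm_apply_apply]
    have ho'8 : o'.card = 8 := by
      rw [Finset.card_image_of_injective _ e.injective, Finset.card_image_of_injective _ (σ _).injective, ho8]
    have ho'1 : o'.prod h = 1 := by
      rw [hprod, hP.prod_image_perm (hσ _) (by rw [ho8]; norm_num), ho1, map_one]
    have hao : a ∈ o' := by
      rw [← hka, hmk]
      exact Finset.mem_image_of_mem _ (Finset.mem_image_of_mem _ ha₀)
    have hbo : b ∉ o' := by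
      rw [← hkb, hmk]
      intro hb
      simp only [o', Finset.mem_image, EmbeddingLike.apply_eq_iff_eq, exists_eq_right] at hb
      exact hb₀ hb
    obtain ⟨l, hl⟩ : ∃ l : List GolayPt, l = (o'.erase a).toList := ⟨_, rfl⟩
    have hlen : l.length = 7 := by rw [hl, Finset.length_toList, Finset.card_erase_of_mem hao, ho'8]
    match l, hlen with
    | [p, q, r, s, u, v, w], _ =>
      have hnd : ([p, q, r, s, u, v, w] : List GolayPt).Nodup := hl ▸ Finset.nodup_toList _
      have hmem : ∀ x ∈ ([p, q, r, s, u, v, w] : List GolayPt), x ≠ a ∧ x ≠ b := fun x hx => by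
        rw [hl, Finset.mem_toList, Finset.mem_erase] at hx
        exact ⟨hx.1, fun k => hbo (k ▸ hx.2)⟩
      refine ⟨p, q, r, s, u, v, w, ?_, ?_⟩
      · simp only [List.forall_mem_cons] at hmem
        simp only [List.nodup_cons, List.mem_cons, List.not_mem_nil, or_false, not_or] at hnd ⊢
        simp [hab, hnd, hmem, Ne.symm hmem.1.1, Ne.symm hmem.1.2, Ne.symm hmem.2.1.1, Ne.symm hmem.2.1.2,
          Ne.symm hmem.2.2.1.1, Ne.symm hmem.2.2.1.2, Ne.symm hmem.2.2.2.1.1, Ne.symm hmem.2.2.2.1.2,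
          Ne.symm hmem.2.2.2.2.1.1, Ne.symm hmem.2.2.2.2.1.2, Ne.symm hmem.2.2.2.2.2.1.1,
          Ne.symm hmem.2.2.2.2.2.1.2, Ne.symm hmem.2.2.2.2.2.2.1.1, Ne.symm hmem.2.2.2.2.2.2.1.2]
      · have h8 : h a * h p * (h q * h r * (h s * h u) * (h v * h w)) = 1 := by
          rw [← ho'1, ← Finset.mul_prod_erase o' h hao, ← Finset.prod_map_toList, ← hl]
          simp [mul_assoc]
        have h9 := eq_inv_of_mul_eq_one_left h8
        rw [inv_eq_of_mul_eq_one_right (hP.sq _)] at h9
        exact congrArg Subtype.val h9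
  · -- generation
    obtain ⟨T, hT2, hT4, hTx⟩ := hP.exhaust.1 ⟨x, hx⟩
    rcases (show T.card = 0 ∨ T.card = 2 ∨ T.card = 4 by omega) with k | k | k
    · rw [Finset.card_eq_zero.1 k, Finset.prod_empty] at hTx
      exact .inl (congrArg Subtype.val hTx).symm
    · obtain ⟨a, b, hab, rfl⟩ := Finset.card_eq_two.1 k
      rw [Finset.prod_pair hab] at hTx
      exact .inr (.inl ⟨e a, e b, fun k => hab (e.injective k), by simpa [h] using (congrArg Subtype.val hTx).symm⟩)
    · refine .inr (.inr fun p => ?_)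
      obtain ⟨T', hT', hp, hx'⟩ : ∃ T' : Finset (Fin 6 × Fin 4), T'.card = 4 ∧ e.symm p ∈ T' ∧
          T'.prod g = ⟨x, hx⟩ := by
        by_cases hpT : e.symm p ∈ T
        · exact ⟨T, k, hpT, hTx⟩
        · obtain ⟨T', hc, hp, -, k'⟩ := hP.exhaust.2 _ _ k hpT
          exact ⟨T', hc, hp, k'.trans hTx⟩
      obtain ⟨q, r, s, hnd, rfl⟩ := four_nodup hT' hp
      refine ⟨e q, e r, e s, ?_, ?_⟩
      · have := hnd.map e.injective
        simpa using this
      · have h4 := List.prod_toFinset g hnd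
        simp only [List.map_cons, List.map_nil, List.prod_cons, List.prod_nil, mul_one, List.toFinset_cons,
          List.toFinset_nil, insert_empty_eq] at h4
        rw [h4] at hx'
        have := (congrArg Subtype.val hx').symm
        simpa [h, mul_assoc] using this
  · -- uniqueness of tetrads through a point
    have conv : ∀ x y w : GolayPt, ([p, x, y, w] : List GolayPt).Nodup →
        ({e.symm p, e.symm x, e.symm y, e.symm w} : Finset _).card = 4 ∧
        ({e.symm p, e.symm x, e.symm y, e.symm w} : Finset _).prod g = h p * h x * (h y * h w) := fun x y w hn => by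
      have hn' : ([e.symm p, e.symm x, e.symm y, e.symm w] : List _).Nodup := by
        simpa using hn.map e.symm.injective
      refine ⟨by simpa using List.toFinset_card_of_nodup hn', ?_⟩
      have := List.prod_toFinset g hn'
      simpa [h, mul_assoc] using this
    obtain ⟨c1, p1⟩ := conv q r s h1
    obtain ⟨c2, p2⟩ := conv q' r' s' h2
    set T1 := ({e.symm p, e.symm q, e.symm r, e.symm s} : Finset _)
    set T2 := ({e.symm p, e.symm q', e.symm r', e.symm s'} : Finset _)
    have hpp : (T1 ∆ T2).prod g = 1 := by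
      rw [hP.prod_symmDiff, p1, p2, show h p * h q * (h r * h s) = h p * h q' * (h r' * h s') from Subtype.ext heq,
        hP.sq]
    have hmeet : 1 ≤ (T1 ∩ T2).card := Finset.card_pos.2 ⟨e.symm p, by simp [T1, T2]⟩
    have h3 := Finset.card_sdiff_add_card_inter T1 T2
    have h4 := Finset.card_sdiff_add_card_inter T2 T1
    rw [Finset.inter_comm T2 T1] at h4
    have hc : (T1 ∆ T2).card = (T1 \ T2).card + (T2 \ T1).card := Finset.card_union_of_disjoint disjoint_sdiff_sdiff
    have h0 : T1 = T2 := symmDiff_eq_bot.1 (hP.small (by omega) (by omega) hpp)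
    have := congrArg (fun T => T.image e) h0
    simpa [T1, T2, Finset.image_insert] using this
  · obtain ⟨m, hm⟩ := (hrange.ge (hω24 ⟨⟨α, fun x => hα x⟩, rfl⟩) : ω ⟨α, fun x => hα x⟩ ∈ ψ.range)
    exact ⟨m, m.2, fun x => congrArg Subtype.val (hext ⟨α, fun x => hα x⟩ (toΓ m) hm.symm x)⟩

end CfsgLib.LargeFischer.Outer
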