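import Cfsg.Agent.Lib.LargeFischer.Outer.Pair
import Cfsg.Agent.Lib.LargeFischer.Outer.Quot
import Cfsg.Agent.S5402

/-!
# The outer involution with centraliser of type `M(23)`
-/

set_option autoImplicit false
set_option linter.unusedSectionVars false
set_option linter.style.haveILetI false
set_option maxHeartbeats 1000000

namespace CfsgLib.LargeFischer.Outer

open Subgroup
open Cfsg (GolayPt)

section Transport

variable {G : Type*} [Group G]

/-- Conjugation between the centralisers. -/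
def centConj (t g : G) : ↥(centralizer ({t} : Set G)) ≃* ↥(centralizer ({g * t * g⁻¹} : Set G)) where
  toFun w := ⟨g * (w : G) * g⁻¹, mem_centralizer_singleton_iff.2 (by
    rw [show g * (w : G) * g⁻¹ * (g * t * g⁻¹) = g * ((w : G) * t) * g⁻¹ by group,
      mem_centralizer_singleton_iff.1 w.2]
    group)⟩
  invFun w := ⟨g⁻¹ * (w : G) * g, mem_centralizer_singleton_iff.2 (by
    rw [show g⁻¹ * (w : G) * g * t = g⁻¹ * ((w : G) * (g * t * g⁻¹)) * g by group,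
      mem_centralizer_singleton_iff.1 w.2]
    group)⟩
  left_inv w := Subtype.ext (by simp [mul_assoc])
  right_inv w := Subtype.ext (by simp [mul_assoc])
  map_mul' w v := Subtype.ext (by simp [mul_assoc])

theorem mem_zpowers_conj {t g x : G} : g * x * g⁻¹ ∈ zpowers (g * t * g⁻¹) ↔ x ∈ zpowers t := by
  simp [mem_zpowers_iff, conj_zpow]

/-- The covering data travel along conjugation. -/
theorem Fi.conj {t : G} (F : Fi t) (g : G) : Nonempty (Fi (g * t * g⁻¹)) := by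
  set φ := centConj t g with hφ
  have hmem : ∀ w : ↥(centralizer ({t} : Set G)), φ w ∈ F.K.map φ.toMonoidHom ↔ w ∈ F.K := fun w => by
    rw [Subgroup.mem_map_equiv, φ.symm_apply_apply]
  have hzp : ∀ w : ↥(centralizer ({t} : Set G)),
      ((φ w : ↥(centralizer ({g * t * g⁻¹} : Set G))) : G) ∈ zpowers (g * t * g⁻¹) ↔ (w : G) ∈ zpowers t :=
    fun w => mem_zpowers_conj
  haveI := F.norm
  refine ⟨{
    K := F.K.map φ.toMonoidHom
    quasi := CfsgLib.Cores.isQuasisimple_of_equiv (φ.subgroupMap F.K) F.quasi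
    index := (Subgroup.index_map_equiv F.K φ).trans F.index
    norm := F.norm.map _ φ.surjective
    ι := F.ι.comp (φ.subgroupMap F.K).symm.toMonoidHom
    surj := F.surj.comp (φ.subgroupMap F.K).symm.surjective
    ker := fun k => ?_
    t_mem := fun w hw => ?_
    cent := fun w hw => ?_
    realise := fun β => ?_ }⟩
  · obtain ⟨k, rfl⟩ := (φ.subgroupMap F.K).surjective k
    show F.ι ((φ.subgroupMap F.K).symm (φ.subgroupMap F.K k)) = 1 ↔ _
    rw [MulEquiv.symm_apply_apply, F.ker]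
    exact (hzp k).symm
  · obtain ⟨w, rfl⟩ := φ.surjective w
    exact (hmem w).2 (F.t_mem w ((hzp w).1 hw))
  · obtain ⟨w, rfl⟩ := φ.surjective w
    refine (hzp w).2 (F.cent w fun k hk => φ.injective ?_)
    rw [map_mul, map_mul]
    exact hw _ ((hmem k).2 hk)
  · obtain ⟨u, hu⟩ := F.realise β
    refine ⟨φ u, fun k => ?_⟩
    obtain ⟨k, rfl⟩ := (φ.subgroupMap F.K).surjective k
    show F.ι _ = β (F.ι ((φ.subgroupMap F.K).symm (φ.subgroupMap F.K k)))
    rw [MulEquiv.symm_apply_apply, ← hu k]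
    refine congrArg F.ι ((MulEquiv.symm_apply_eq _).2 (Subtype.ext ?_))
    show φ u * φ (k : ↥(centralizer ({t} : Set G))) * (φ u)⁻¹ = φ _
    rw [map_mul, map_mul, map_inv]

end Transport

open CfsgLib.LargeFischer.Thompson (Ctx Ns inner val)

variable {X : Type*} [Group X] [Finite X]

/-- The statement, from the covers at the involutions of `Q` outside the class of `z`. -/
theorem exists_m23 (G₀ : Subgroup X) (hidx : G₀.index = 2) (z : ↥G₀)
    (Q : Subgroup (centralizer ({z} : Set ↥G₀))) [Q.Normal] (hF : Cfsg.IsOfLargeFischerTypeAt z Q)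
    (hFX : (Cfsg.generalizedFittingSubgroup ↥(centralizer ({(z : X)} : Set X))).map (Subgroup.subtype _) =
      ((Q.map (Subgroup.subtype _)).map G₀.subtype))
    (hcov : ∀ t : ↥G₀, (∃ htc : t ∈ centralizer ({z} : Set ↥G₀), (⟨t, htc⟩ : centralizer ({z} : Set ↥G₀)) ∈ Q) →
      orderOf t = 2 → ¬ IsConj z t → Nonempty (Fi t)) :
    ∃ d : X, orderOf d = 2 ∧ d ∉ G₀ ∧ Commute d (z : X) ∧ ∃ t : ↥(G₀ ⊓ Subgroup.centralizer ({d} : Set X)), orderOf t = 2 ∧ Cfsg.IsQuasisimple ↥(Subgroup.centralizer ({t} : Set ↥(G₀ ⊓ Subgroup.centralizer ({d} : Set X)))) ∧ (∃ (_ : ((Subgroup.zpowers t).subgroupOf (Subgroup.centralizer ({t} : Set ↥(G₀ ⊓ Subgroup.centralizer ({d} : Set X))))).Normal), (∃ E : Set (↥(Subgroup.centralizer ({t} : Set ↥(G₀ ⊓ Subgroup.centralizer ({d} : Set X)))) ⧸ (Subgroup.zpowers t).subgroupOf (Subgroup.centralizer ({t} : Set ↥(G₀ ⊓ Subgroup.centralizer ({d} : Set X))))), Cfsg.IsThreeTranspositionClass E ∧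 Cfsg.IsOfTypeM22 _ E) ∧ ∃ d' : ↥(Subgroup.centralizer ({t} : Set ↥(G₀ ⊓ Subgroup.centralizer ({d} : Set X)))) ⧸ (Subgroup.zpowers t).subgroupOf (Subgroup.centralizer ({t} : Set ↥(G₀ ⊓ Subgroup.centralizer ({d} : Set X)))), orderOf d' = 2 ∧ Cfsg.IsQuasisimple ↥(Subgroup.centralizer ({d'} : Set _)) ∧ (∃ (K : Type) (_ : Field K) (_ : Fintype K), Fintype.card K = 4 ∧ ∃ _ : ((Subgroup.zpowers d').subgroupOf (Subgroup.centralizer ({d'} : Set _))).Normal, Nonempty (↥(Subgroup.centralizer ({d'} : Set _)) ⧸ (Subgroup.zpowers d').subgroupOf (Subgroup.centralizer ({d'} : Set _)) ≃* Cfsg.PSU 6 K 2)) ∧ ∃ g, g * d' * g⁻¹ ∈ Subgroup.centralizer ({d'} : Set _) ∧ g * d' * g⁻¹ ≠ d') ∧ (∃ g : ↥(G₀ ⊓ Subgroup.centralizer ({d} : Set X)), g * t * g⁻¹ ∈ Subgroup.centralizer ({t} : Set ↥(G₀ ⊓ Subgroup.centralizer ({d} : Set X))) ∧ g * t * g⁻¹ ≠ t) ∧ Cfsg.IsThreeTranspositionClass (conjugatesOf t) ∧ Cfsg.IsOfTypeM23 ↥(G₀ ⊓ Subgroup.centralizer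 ({d} : Set X)) (conjugatesOf t) := by
  classical
  obtain ⟨ι, fι, q, inst, π, n, M, φ, m⟩ := exists_model z Q hF
  obtain ⟨s, E, D, A, Ab, T₀, c, -⟩ := Thompson.exists_ctx hF m
  obtain ⟨f, ψ, L⟩ := exists_duads c
  have H : Data G₀ z Q q π n M φ s E D A Ab f ψ := ⟨hidx, c, L, hFX⟩
  obtain ⟨t₀, ⟨ht₀A, ht₀1, ht₀z⟩, -, u, rfl⟩ := Set.nonempty_of_ncard_ne_zero
    (show (Ns z A ∩ inner Q A).ncard ≠ 0 by rw [c.Ns_counts.2.1]; norm_num)
  obtain ⟨a, b, hab, hfab⟩ := L.cover _ ⟨ht₀A, ht₀1, ht₀z⟩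
  haveI := Fact.mk Nat.prime_two
  have ord2 : orderOf (f a * f b) = 2 := by
    rw [hfab]
    exact orderOf_eq_prime (by rw [pow_two]; exact c.sq ht₀A) ht₀1
  obtain ⟨F⟩ := hcov (f a * f b) (by
      rw [hfab]
      exact ⟨(u : centralizer ({z} : Set ↥G₀)).2, u.2⟩) ord2 (by rw [hfab]; exact ht₀z)
  obtain ⟨p, hp⟩ := exists_avoid [a, b] (by simp)
  simp only [List.mem_cons, List.not_mem_nil, or_false, not_or] at hp
  obtain ⟨σ, hσ, σa, σb⟩ := CfsgLib.Golay.M24_map_two hab (show b ≠ p from Ne.symm hp.2)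
  obtain ⟨m₀, rfl⟩ := L.exists_move hσ
  obtain ⟨F'⟩ : Nonempty (Fi (f b * f p)) := by
    have := F.conj (m₀ : ↥G₀)
    rwa [L.equiv, σa, σb] at this
  obtain ⟨e, he, he'⟩ := H.exists_shared F hab (Ne.symm hp.1) (Ne.symm hp.2) F'
  have heA := Data.Outer.cent_A H F hab he
  refine ⟨e, orderOf_eq_prime (by rw [pow_two]; exact H.outer_sq he.1 heA) (fun h => he.1 (h ▸ one_mem _)),
    he.1, heA z c.z_mem, ?_⟩
  set Y := G₀ ⊓ centralizer ({e} : Set X) with hYdef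
  have hmemY : ∀ g : ↥G₀, e * (g : X) = (g : X) * e → (g : X) ∈ Y := fun g h =>
    ⟨g.2, mem_centralizer_singleton_iff.2 h.symm⟩
  have htA : f a * f b ∈ A := L.pair_A a b
  set t : ↥Y := ⟨((f a * f b : ↥G₀) : X), hmemY _ (heA _ htA)⟩ with htdef
  have ht2 : orderOf t = 2 := by
    rw [← orderOf_coe t]
    show orderOf ((f a * f b : ↥G₀) : X) = 2
    rw [orderOf_coe]
    exact ord2
  -- the elements of the first centraliser commuting with `e` form the cover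
  set C := centralizer ({f a * f b} : Set ↥G₀)
  have hKe : ∀ w : ↥C, e * ((w : ↥G₀) : X) = ((w : ↥G₀) : X) * e → w ∈ F.K := by
    intro w hw
    obtain ⟨v, hv, hve⟩ := H.shared_moved F hab (Ne.symm hp.1) (Ne.symm hp.2) F' he he'
    by_contra hwK
    have hvK : (⟨v, hv⟩ : ↥C) ∉ F.K := fun h => hve (he.2 _ h)
    have h := he.2 _ ((Subgroup.mul_mem_iff_of_index_two F.index).2 (iff_of_false hvK hwK) :
      (⟨v, hv⟩ : ↥C) * w ∈ F.K)
    simp only [Subgroup.coe_mul] at h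
    refine hve ?_
    calc e * (v : X) = e * ((v : X) * ((w : ↥G₀) : X)) * ((w : ↥G₀) : X)⁻¹ := by group
      _ = (v : X) * (((w : ↥G₀) : X) * e) * ((w : ↥G₀) : X)⁻¹ := by rw [h]; group
      _ = (v : X) * e := by rw [← hw]; group
  set CY := centralizer ({t} : Set ↥Y)
  have hto : ∀ w : ↥CY, (⟨((w : ↥Y) : X), (w : ↥Y).2.1⟩ : ↥G₀) ∈ C := fun w =>
    mem_centralizer_singleton_iff.2 (Subtype.ext (congrArg (Subtype.val : ↥Y → X)
      (mem_centralizer_singleton_iff.1 w.2)))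
  let toK : ↥CY →* ↥F.K := MonoidHom.mk' (fun w => ⟨⟨_, hto w⟩,
    hKe _ (mem_centralizer_singleton_iff.1 (w : ↥Y).2.2).symm⟩) fun w v => rfl
  have hbij : Function.Bijective toK := by
    refine ⟨fun w v h => Subtype.ext (Subtype.ext
      (congrArg (fun k : ↥F.K => (((k : ↥C) : ↥G₀) : X)) h)), fun k => ?_⟩
    refine ⟨⟨⟨((k : ↥C) : ↥G₀), hmemY _ (he.2 k k.2)⟩, mem_centralizer_singleton_iff.2 (Subtype.ext ?_)⟩,
      Subtype.ext (Subtype.ext (Subtype.ext rfl))⟩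
    exact congrArg (Subtype.val : ↥G₀ → X) (mem_centralizer_singleton_iff.1 (k : ↥C).2)
  let eK := MulEquiv.ofBijective toK hbij
  have hquasi : Cfsg.IsQuasisimple ↥CY := CfsgLib.Cores.isQuasisimple_of_equiv eK.symm F.quasi
  let g₀ : ↥CY →* Cfsg.Spor.Fi22 := F.ι.comp toK
  have hsurj : Function.Surjective g₀ := F.surj.comp hbij.2
  have hker : g₀.ker = (zpowers t).subgroupOf CY := by
    ext w
    rw [MonoidHom.mem_ker, Subgroup.mem_subgroupOf]
    refine (F.ker _).trans ?_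
    simp only [mem_zpowers_iff, Subtype.ext_iff, SubgroupClass.coe_zpow]
    rfl
  haveI hn : ((zpowers t).subgroupOf CY).Normal := hker ▸ inferInstance
  obtain ⟨hE, hd'⟩ := fi22_data ((QuotientGroup.quotientMulEquivOfEq hker.symm).trans
    (QuotientGroup.quotientKerEquivOfSurjective g₀ hsurj))
  -- a conjugate of `t` in `Y` commuting with it
  have hnwc : ∃ g : ↥Y, g * t * g⁻¹ ∈ CY ∧ g * t * g⁻¹ ≠ t := by
    obtain ⟨a', ha'⟩ := exists_avoid [a, b, p] (by simp)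
    simp only [List.mem_cons, List.not_mem_nil, or_false, not_or] at ha'
    obtain ⟨g, hg, gb, gp, ga⟩ := CfsgLib.Golay.M24_map_three (Ne.symm hp.2) (Ne.symm hab) hp.1 (Ne.symm hp.2)
      (Ne.symm ha'.2.1) (Ne.symm ha'.2.2)
    obtain ⟨r, rfl⟩ := L.exists_move hg
    obtain ⟨_, hrK⟩ := H.stab_inK F' (Ne.symm hp.2) gb gp
    refine ⟨⟨_, hmemY (r : ↥G₀) (he'.2 _ hrK)⟩, mem_centralizer_singleton_iff.2 (Subtype.ext ?_), fun h => ?_⟩
    · show ((r : ↥G₀) : X) * ((f a * f b : ↥G₀) : X) * ((r : ↥G₀) : X)⁻¹ * ((f a * f b : ↥G₀) : X) =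
        ((f a * f b : ↥G₀) : X) * (((r : ↥G₀) : X) * ((f a * f b : ↥G₀) : X) * ((r : ↥G₀) : X)⁻¹)
      exact congrArg (Subtype.val : ↥G₀ → X) (c.comm (c.conj_mem r.2 htA) htA)
    · have h' : (r : ↥G₀) * (f a * f b) * (r : ↥G₀)⁻¹ = f a * f b :=
        Subtype.ext (congrArg (Subtype.val : ↥Y → X) h)
      rw [L.equiv, ga, gb] at h'
      rcases L.inj _ _ _ _ hab ha'.2.1 h'.symm with ⟨k, -⟩ | ⟨k, -⟩
      · exact ha'.1 k
      · exact ha'.2.1 k
  obtain ⟨h1, h2⟩ := Cfsg.Agent.S5402.result t ht2 hquasi hE hd' hnwc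
  exact ⟨t, ht2, hquasi, ⟨hn, hE, hd'⟩, hnwc, h1, h2⟩

end CfsgLib.LargeFischer.Outer
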