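import Cfsg.Agent.Lib.LargeFischer.Outer.Duads

/-!
# The labelled elementary group: moves of the points and the elements fixed by three points
-/

set_option autoImplicit false
set_option linter.unusedSectionVars false
set_option linter.style.haveILetI false

namespace CfsgLib.LargeFischer.Outer

open Subgroup
open Cfsg (GolayPt)
open CfsgLib.LargeFischer.Thompson (Ns)

variable {G : Type*} [Group G] [Finite G] {z : G} {A : Subgroup G} {f : GolayPt → G}
  {ψ : ↥(Subgroup.normalizer (A : Set G)) →* Equiv.Perm GolayPt}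

theorem exists_avoid (l : List GolayPt) (hl : l.length < 24) : ∃ p : GolayPt, p ∉ l := by
  classical
  obtain ⟨p, -, hp⟩ := Finset.exists_mem_notMem_of_card_lt_card (s := l.toFinset) (t := (Finset.univ : Finset GolayPt))
    (lt_of_le_of_lt (List.toFinset_card_le l) (by
      rw [Finset.card_univ, Fintype.card_congr CfsgLib.Golay.ptEquiv, Fintype.card_fin]; exact hl))
  exact ⟨p, fun h => hp (List.mem_toFinset.2 h)⟩

namespace Duads

variable (L : Duads z A f ψ)
include L

theorem exists_move {g : Equiv.Perm GolayPt} (hg : g ∈ Cfsg.M24) :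
    ∃ m : ↥(Subgroup.normalizer (A : Set G)), ψ m = g := L.range.ge hg

theorem pair_A (a b : GolayPt) : f a * f b ∈ A := mul_mem (L.mem a) (L.mem b)

theorem swap_mul (a b : GolayPt) : f a * f b = f b * f a := L.comm _ (L.mem a) _ (L.mem b)

theorem tri (a b c : GolayPt) : f a * f b * (f b * f c) = f a * f c := by
  rw [mul_assoc, ← mul_assoc (f b), L.sq _ (L.mem b), one_mul]

theorem fix_pair {m : ↥(Subgroup.normalizer (A : Set G))} {a b : GolayPt} (ha : ψ m a = a) (hb : ψ m b = b) :
    (m : G) * (f a * f b) * (m : G)⁻¹ = f a * f b := by rw [L.equiv, ha, hb]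

theorem image_four (m : ↥(Subgroup.normalizer (A : Set G))) (p q r s : GolayPt) :
    (m : G) * (f p * f q * (f r * f s)) * (m : G)⁻¹ =
      f (ψ m p) * f (ψ m q) * (f (ψ m r) * f (ψ m s)) := by
  rw [← L.equiv, ← L.equiv]
  group

/-- An element of `A` fixed by all elements fixing three points. -/
theorem fixed_three {a b c : GolayPt} (hab : a ≠ b) (hac : a ≠ c) (hbc : b ≠ c) {x : G} (hx : x ∈ A)
    (h : ∀ m : ↥(Subgroup.normalizer (A : Set G)), ψ m a = a → ψ m b = b → ψ m c = c →
      (m : G) * x * (m : G)⁻¹ = x) :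
    x = 1 ∨ x = f a * f b ∨ x = f b * f c ∨ x = f a * f c := by
  classical
  rcases L.gen x hx with h1 | ⟨p, q, hpq, rfl⟩ | ht
  · exact .inl h1
  · have key : ∀ u v : GolayPt, u ≠ v → f u * f v = f p * f q → u = a ∨ u = b ∨ u = c := by
      intro u v huv e
      by_contra hu
      simp only [not_or] at hu
      obtain ⟨u', hu'⟩ := exists_avoid [a, b, c, u, v] (by simp)
      simp only [List.mem_cons, List.not_mem_nil, or_false, not_or] at hu'
      obtain ⟨g, hg, ga, gb, gc, gu⟩ := CfsgLib.Golay.M24_map_four (a := a) (b := b) (c := c) (d := u) (a' := a)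
        (b' := b) (c' := c) (d' := u') hab hac (Ne.symm hu.1) hbc (Ne.symm hu.2.1) (Ne.symm hu.2.2) hab hac
        (Ne.symm hu'.1) hbc (Ne.symm hu'.2.1) (Ne.symm hu'.2.2.1)
      obtain ⟨m, rfl⟩ := L.exists_move hg
      have h2 := h m ga gb gc
      rw [← e, L.equiv, gu] at h2
      have hne : u' ≠ ψ m v := fun k => huv ((ψ m).injective (gu.trans k))
      rcases L.inj _ _ _ _ hne huv h2 with ⟨k1, -⟩ | ⟨-, k2⟩
      · exact hu'.2.2.2.1 k1.symm
      · exact hu'.2.2.2.2 k2.symm
    have hp := key p q hpq rfl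
    have hq := key q p (Ne.symm hpq) (L.swap_mul q p)
    rcases hp with rfl | rfl | rfl <;> rcases hq with rfl | rfl | rfl
    all_goals first
      | exact absurd rfl hpq
      | exact .inr (.inl rfl)
      | exact .inr (.inr (.inl rfl))
      | exact .inr (.inr (.inr rfl))
      | exact .inr (.inl (L.swap_mul _ _))
      | exact .inr (.inr (.inl (L.swap_mul _ _)))
      | exact .inr (.inr (.inr (L.swap_mul _ _)))
  · exfalso
    obtain ⟨q, r, s, hnd, hxe⟩ := ht a
    obtain ⟨w, hw, hwb, hwc⟩ : ∃ w, w ∈ ({a, q, r, s} : Finset GolayPt) \ {a} ∧ w ≠ b ∧ w ≠ c := by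
      have h3 : (({a, q, r, s} : Finset GolayPt) \ {a, b, c}).Nonempty := by
        rw [← Finset.card_pos]
        have h4 : ({a, q, r, s} : Finset GolayPt).card = 4 := by
          have := List.toFinset_card_of_nodup hnd
          simpa using this
        have h5 := Finset.le_card_sdiff ({a, b, c} : Finset GolayPt) ({a, q, r, s} : Finset GolayPt)
        have h6 := Finset.card_le_three (a := a) (b := b) (c := c)
        omega
      obtain ⟨w, hw⟩ := h3
      simp only [Finset.mem_sdiff, Finset.mem_insert, Finset.mem_singleton, not_or] at hw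
      exact ⟨w, by simpa [hw.2.1] using hw.1, hw.2.2.1, hw.2.2.2⟩
    simp only [Finset.mem_sdiff, Finset.mem_singleton] at hw
    obtain ⟨w', hw'⟩ := exists_avoid [a, b, c, q, r, s] (by simp)
    simp only [List.mem_cons, List.not_mem_nil, or_false, not_or] at hw'
    obtain ⟨g, hg, ga, gb, gc, gw⟩ := CfsgLib.Golay.M24_map_four (a := a) (b := b) (c := c) (d := w) (a' := a)
      (b' := b) (c' := c) (d' := w') hab hac (Ne.symm hw.2) hbc (Ne.symm hwb) (Ne.symm hwc) hab hac
      (Ne.symm hw'.1) hbc (Ne.symm hw'.2.1) (Ne.symm hw'.2.2.1)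
    obtain ⟨m, rfl⟩ := L.exists_move hg
    have h2 := h m ga gb gc
    rw [hxe, L.image_four, ga] at h2
    have hnd' : ([a, ψ m q, ψ m r, ψ m s] : List GolayPt).Nodup := by
      have := hnd.map (ψ m).injective
      simpa [ga] using this
    have hset := L.tet_uniq _ _ _ _ _ _ _ hnd' hnd h2
    have hmem : w' ∈ ({a, ψ m q, ψ m r, ψ m s} : Finset GolayPt) := by
      rw [← gw]
      have h7 := Finset.mem_image_of_mem (ψ m) hw.1
      simpa [ga] using h7
    rw [hset] at hmem
    simp [hw'] at hmem

end Duads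

end CfsgLib.LargeFischer.Outer
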