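import Cfsg.Agent.Lib.LargeFischer.Outer.Setting
import Cfsg.Agent.Lib.LargeFischer.Outer.Cover
import Cfsg.Agent.Lib.LargeFischer.Outer.Points

/-!
# The outer elements centralising the cover of `Fi22` attached to a duad
-/

set_option autoImplicit false
set_option linter.unusedSectionVars false
set_option linter.style.haveILetI false
set_option linter.dupNamespace false
set_option maxHeartbeats 1000000

namespace CfsgLib.LargeFischer.Outer

open Subgroup QuadraticMap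
open Cfsg (GolayPt)
open CfsgLib.Schur.Tails.UFour (H4)
open CfsgLib.LargeFischer.Thompson (Ctx Ns Zs val)
open scoped commutatorElement

variable {X : Type*} [Group X] [Finite X] {G₀ : Subgroup X} {z : ↥G₀}
  {Q : Subgroup (centralizer ({z} : Set ↥G₀))} [Q.Normal] {V : Type*} [AddCommGroup V] [Module (ZMod 2) V]
  [DistribMulAction ((centralizer ({z} : Set ↥G₀)) ⧸ Q) V] [Finite V] {q : QuadraticForm (ZMod 2) V} {π : ↥Q → V}
  {n : (centralizer ({z} : Set ↥G₀)) ⧸ Q} {M : Subgroup ((centralizer ({z} : Set ↥G₀)) ⧸ Q)} {φ : ↥M →* ↥H4}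
  {s : V} {E : Subgroup ((centralizer ({z} : Set ↥G₀)) ⧸ Q)} {D : AddSubgroup V}
  {A : Subgroup ↥G₀} {Ab : Subgroup ((centralizer ({z} : Set ↥G₀)) ⧸ Q)}
  {f : GolayPt → ↥G₀} {ψ : ↥(Subgroup.normalizer (A : Set ↥G₀)) →* Equiv.Perm GolayPt}

/-- The pair stabiliser in `M24` is perfect. -/
theorem pair_stab_perfect {a b : GolayPt} (hab : a ≠ b) :
    commutator ↥(MulAction.stabilizer ↥Cfsg.M24 a ⊓ MulAction.stabilizer ↥Cfsg.M24 b) = ⊤ := by
  obtain ⟨e⟩ := CfsgLib.Golay.stabilizer_pair_equiv hab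
  have h := CfsgLib.Golay.commutator_eq_top_of_le CfsgLib.Golay.stabTwo_perfect
  rw [eq_top_iff]
  intro x _
  have h2 : e.symm.toMonoidHom (e x) ∈ (commutator _).map e.symm.toMonoidHom :=
    Subgroup.mem_map_of_mem _ (h.symm ▸ Subgroup.mem_top (e x))
  rw [_root_.commutator_def, Subgroup.map_commutator] at h2
  have h3 := Subgroup.commutator_mono le_top le_top h2
  simpa [_root_.commutator_def] using h3

namespace Data

variable (H : Data G₀ z Q q π n M φ s E D A Ab f ψ) {a b : GolayPt}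
include H

omit H in
theorem mem_cent_iff {t g : ↥G₀} : g ∈ centralizer ({t} : Set ↥G₀) ↔ g * t = t * g :=
  mem_centralizer_singleton_iff

theorem A_le_cent (a b : GolayPt) {x : ↥G₀} (hx : x ∈ A) : x ∈ centralizer ({f a * f b} : Set ↥G₀) :=
  mem_cent_iff.2 (H.duads.comm _ hx _ (H.duads.pair_A a b))

theorem setwise_mem {m : ↥(Subgroup.normalizer (A : Set ↥G₀))}
    (h : (ψ m a = a ∧ ψ m b = b) ∨ (ψ m a = b ∧ ψ m b = a)) :
    (m : ↥G₀) ∈ centralizer ({f a * f b} : Set ↥G₀) := by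
  refine mem_cent_iff.2 (mul_inv_eq_iff_eq_mul.1 ?_)
  rw [H.duads.equiv]
  rcases h with ⟨h1, h2⟩ | ⟨h1, h2⟩ <;> rw [h1, h2]
  exact H.duads.swap_mul b a

variable (F : Fi (f a * f b))

theorem comm_mem (x y : ↥(centralizer ({f a * f b} : Set ↥G₀))) : ⁅x, y⁆ ∈ F.K := by
  by_cases hx : x ∈ F.K <;> by_cases hy : y ∈ F.K <;>
    simp [commutatorElement_def, Subgroup.mul_mem_iff_of_index_two F.index, hx, hy]

theorem K_eq : F.K = commutator ↥(centralizer ({f a * f b} : Set ↥G₀)) := by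
  refine le_antisymm (fun k hk => ?_) ?_
  · have h1 : (⟨k, hk⟩ : ↥F.K) ∈ commutator ↥F.K := F.quasi.1.commutator_eq_top ▸ Subgroup.mem_top _
    have h2 : k ∈ (commutator ↥F.K).map F.K.subtype := ⟨_, h1, rfl⟩
    rw [_root_.commutator_def, Subgroup.map_commutator] at h2
    exact Subgroup.commutator_mono le_top le_top h2
  · rw [_root_.commutator_def, Subgroup.commutator_le]
    exact fun x _ y _ => H.comm_mem F x y

/-- Being in the cover, as elements of the subgroup of index two. -/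
def InK (_H : Data G₀ z Q q π n M φ s E D A Ab f ψ) (F : Fi (f a * f b)) (g : ↥G₀) : Prop :=
  ∃ h : g ∈ centralizer ({f a * f b} : Set ↥G₀), (⟨g, h⟩ : ↥(centralizer ({f a * f b} : Set ↥G₀))) ∈ F.K

theorem inK_mul {x y : ↥G₀} (hx : H.InK F x) (hy : H.InK F y) : H.InK F (x * y) := by
  obtain ⟨hx, hx'⟩ := hx
  obtain ⟨hy, hy'⟩ := hy
  exact ⟨mul_mem hx hy, mul_mem hx' hy'⟩

theorem A_inK (hab : a ≠ b) {x : ↥G₀} (hx : x ∈ A) : H.InK F x := by
  classical
  have hout : ∀ c c' : GolayPt, c ≠ c' → c ≠ a → c ≠ b → c' ≠ a → c' ≠ b → H.InK F (f c * f c') := by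
    intro c c' _ hca hcb hca' hcb'
    obtain ⟨g, hg, ga, gb, gc⟩ := CfsgLib.Golay.M24_map_three hab (Ne.symm hca) (Ne.symm hcb) hab (Ne.symm hca')
      (Ne.symm hcb')
    obtain ⟨m, rfl⟩ := H.duads.exists_move hg
    have hm : (m : ↥G₀) ∈ centralizer ({f a * f b} : Set ↥G₀) := H.setwise_mem (.inl ⟨ga, gb⟩)
    have hu : f c * f a ∈ centralizer ({f a * f b} : Set ↥G₀) := H.A_le_cent a b (H.duads.pair_A c a)
    have h1 := H.comm_mem F ⟨m, hm⟩ ⟨_, hu⟩
    have e : f c * f c' = (m : ↥G₀) * (f c * f a) * (m : ↥G₀)⁻¹ * (f c * f a)⁻¹ := by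
      rw [H.duads.equiv, gc, ga, H.ctx.inv (H.duads.pair_A c a), H.duads.swap_mul c a, H.duads.tri,
        H.duads.swap_mul]
    exact ⟨H.A_le_cent a b (H.duads.pair_A c c'), by
      convert h1 using 1
      exact Subtype.ext e⟩
  obtain ⟨p, q', r, s', u, v, w, hnd, heq⟩ := H.duads.eight a b hab
  simp only [List.nodup_cons, List.mem_cons, List.not_mem_nil, or_false, not_or] at hnd
  obtain ⟨⟨-, hap, haq, har, has, hau, hav, haw⟩, ⟨hbp, hbq, hbr, hbs, hbu, hbv, hbw⟩, -, ⟨hqr, -⟩, -, ⟨hsu, -⟩,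
    -, hvw, -⟩ := hnd
  have hapK : H.InK F (f a * f p) := by
    rw [heq]
    exact H.inK_mul F
      (H.inK_mul F (hout q' r hqr (Ne.symm haq) (Ne.symm hbq) (Ne.symm har) (Ne.symm hbr))
        (hout s' u hsu (Ne.symm has) (Ne.symm hbs) (Ne.symm hau) (Ne.symm hbu)))
      (hout v w hvw (Ne.symm hav) (Ne.symm hbv) (Ne.symm haw) (Ne.symm hbw))
  have htK : H.InK F (f a * f b) :=
    ⟨H.A_le_cent a b (H.duads.pair_A a b), F.t_mem _ (mem_zpowers _)⟩
  have haout : ∀ c, c ≠ a → H.InK F (f a * f c) := fun c hca => by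
    by_cases hcb : c = b
    · exact hcb ▸ htK
    by_cases hcp : c = p
    · exact hcp ▸ hapK
    have := H.inK_mul F hapK (hout p c (Ne.symm hcp) (Ne.symm hap) (Ne.symm hbp) hca hcb)
    rwa [H.duads.tri] at this
  have hall : ∀ c c', c ≠ c' → H.InK F (f c * f c') := fun c c' hcc => by
    by_cases hca : c = a
    · exact hca ▸ haout c' fun k => hcc (hca.trans k.symm)
    by_cases hca' : c' = a
    · rw [H.duads.swap_mul]
      exact hca' ▸ haout c hca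
    have := H.inK_mul F (haout c hca) (haout c' hca')
    rwa [H.duads.swap_mul a c, H.duads.tri] at this
  rcases H.duads.gen x hx with rfl | ⟨c, c', hcc, rfl⟩ | ht
  · exact ⟨one_mem _, one_mem F.K⟩
  · exact hall c c' hcc
  · obtain ⟨q, r, s, hnd, rfl⟩ := ht a
    simp only [List.nodup_cons, List.mem_cons, List.not_mem_nil, or_false, not_or] at hnd
    exact H.inK_mul F (hall _ _ hnd.1.1) (hall _ _ hnd.2.2.1)

theorem stab_inK (hab : a ≠ b) {m : ↥(Subgroup.normalizer (A : Set ↥G₀))} (ha : ψ m a = a) (hb : ψ m b = b) :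
    H.InK F m := by
  set S := MulAction.stabilizer ↥Cfsg.M24 a ⊓ MulAction.stabilizer ↥Cfsg.M24 b
  let ψ' : ↥(Subgroup.normalizer (A : Set ↥G₀)) →* ↥Cfsg.M24 :=
    ψ.codRestrict Cfsg.M24 fun m => H.duads.range ▸ ⟨m, rfl⟩
  let W := S.comap ψ'
  let χ : ↥W →* ↥S := (ψ'.comp W.subtype).codRestrict S fun w => w.2
  have hχ : Function.Surjective χ := fun g => by
    obtain ⟨w, hw⟩ := H.duads.exists_move (g : ↥Cfsg.M24).2
    have hw' : ψ' w = (g : ↥Cfsg.M24) := Subtype.ext hw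
    exact ⟨⟨w, show ψ' w ∈ S from hw'.symm ▸ g.2⟩, Subtype.ext hw'⟩
  have hmW : m ∈ W := ⟨ha, hb⟩
  have hWC : ∀ w : ↥W, ((w : ↥(Subgroup.normalizer (A : Set ↥G₀))) : ↥G₀) ∈ centralizer ({f a * f b} : Set ↥G₀) :=
    fun w => H.setwise_mem (.inl ⟨w.2.1, w.2.2⟩)
  let η : ↥W →* ↥(centralizer ({f a * f b} : Set ↥G₀)) :=
    ((Subgroup.subtype _).comp W.subtype).codRestrict _ hWC
  have h1 : χ ⟨m, hmW⟩ ∈ (commutator ↥W).map χ := by
    rw [_root_.commutator_def, Subgroup.map_commutator, Subgroup.map_top_of_surjective χ hχ,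
      ← _root_.commutator_def, pair_stab_perfect hab]
    exact Subgroup.mem_top _
  obtain ⟨w, hw, e⟩ := h1
  have hwK : η w ∈ F.K := by
    rw [H.K_eq F]
    have h2 : η w ∈ (commutator ↥W).map η := ⟨w, hw, rfl⟩
    rw [_root_.commutator_def, Subgroup.map_commutator] at h2
    exact Subgroup.commutator_mono le_top le_top h2
  have hA : ((w : ↥(Subgroup.normalizer (A : Set ↥G₀))) : ↥G₀)⁻¹ * (m : ↥G₀) ∈ A := by
    refine (H.duads.ker (((w : ↥W) : ↥(Subgroup.normalizer (A : Set ↥G₀)))⁻¹ * m)).1 ?_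
    have e' : ψ w = ψ m := congrArg (fun g : ↥S => ((g : ↥Cfsg.M24) : Equiv.Perm GolayPt)) e
    rw [map_mul, map_inv, e', inv_mul_cancel]
  obtain ⟨hC, hK⟩ := H.A_inK F hab hA
  refine ⟨H.setwise_mem (.inl ⟨ha, hb⟩), ?_⟩
  convert mul_mem hwK hK using 1
  exact Subtype.ext (mul_inv_cancel_left _ _).symm

/-- Outer elements centralising the cover. -/
def Outer (_H : Data G₀ z Q q π n M φ s E D A Ab f ψ) (F : Fi (f a * f b)) (y : X) : Prop :=
  y ∉ G₀ ∧ ∀ k ∈ F.K, y * ((k : ↥G₀) : X) = ((k : ↥G₀) : X) * y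

theorem Outer.cent_A (hab : a ≠ b) {y : X} (hy : H.Outer F y) : ∀ x ∈ A, y * (x : X) = (x : X) * y := fun x hx => by
  obtain ⟨h, hk⟩ := H.A_inK F hab hx
  exact hy.2 _ hk

theorem exists_outer : ∃ y, H.Outer F y := by
  classical
  obtain ⟨y₀, hy₀, hc₀⟩ := H.exists_outer_cent
  obtain ⟨α, hα⟩ := H.conj_exists y₀
  have hαt : α (f a * f b) = (f a * f b) := Subtype.ext (by rw [hα, hc₀ (f a * f b) (H.duads.pair_A a b)]; group)
  have hαC : ∀ w ∈ (centralizer ({f a * f b} : Set ↥G₀)), α w ∈ (centralizer ({f a * f b} : Set ↥G₀)) := fun w hw => mem_cent_iff.2 (by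
    rw [← hαt, ← map_mul, mem_cent_iff.1 hw, map_mul])
  let αC : ↥(centralizer ({f a * f b} : Set ↥G₀)) →* ↥(centralizer ({f a * f b} : Set ↥G₀)) := (α.toMonoidHom.comp (centralizer ({f a * f b} : Set ↥G₀)).subtype).codRestrict (centralizer ({f a * f b} : Set ↥G₀)) fun w => hαC w w.2
  have hαK : ∀ w ∈ F.K, αC w ∈ F.K := fun w hw => by
    rw [H.K_eq F] at hw ⊢
    have h2 : αC w ∈ (commutator ↥(centralizer ({f a * f b} : Set ↥G₀))).map αC := ⟨w, hw, rfl⟩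
    rw [_root_.commutator_def, Subgroup.map_commutator] at h2
    exact Subgroup.commutator_mono le_top le_top h2
  let αK : ↥F.K →* ↥F.K := (αC.comp F.K.subtype).codRestrict F.K fun w => hαK w w.2
  have hker : ∀ k : ↥F.K, F.ι k = 1 → F.ι (αK k) = 1 := fun k hk => by
    obtain ⟨j, hj⟩ := mem_zpowers_iff.1 ((F.ker k).1 hk)
    refine (F.ker _).2 (mem_zpowers_iff.2 ⟨j, ?_⟩)
    show (f a * f b) ^ j = α ((k : ↥(centralizer ({f a * f b} : Set ↥G₀))) : ↥G₀)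
    rw [← hj, map_zpow, hαt]
  have hker' : ∀ k : ↥F.K, F.ι (αK k) = 1 → F.ι k = 1 := fun k hk => by
    obtain ⟨j, hj⟩ := mem_zpowers_iff.1 ((F.ker _).1 hk)
    refine (F.ker _).2 (mem_zpowers_iff.2 ⟨j, α.injective ?_⟩)
    rw [map_zpow, hαt]
    exact hj
  let β₀ : Cfsg.Spor.Fi22 →* Cfsg.Spor.Fi22 := F.ι.liftOfSurjective F.surj
    ⟨F.ι.comp αK, fun k hk => MonoidHom.mem_ker.2 (hker k (MonoidHom.mem_ker.1 hk))⟩
  have hβ₀ : ∀ k, β₀ (F.ι k) = F.ι (αK k) := fun k =>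
    MonoidHom.liftOfRightInverse_comp_apply _ _ (Function.rightInverse_surjInv F.surj) _ k
  haveI := CfsgLib.Fi22P.card_fi.1
  have hinj : Function.Injective β₀ := by
    rw [← MonoidHom.ker_eq_bot_iff, eq_bot_iff]
    intro g hg
    obtain ⟨k, rfl⟩ := F.surj g
    rw [MonoidHom.mem_ker, hβ₀] at hg
    exact hker' k hg
  let β : MulAut Cfsg.Spor.Fi22 := MulEquiv.ofBijective β₀ (Finite.injective_iff_bijective.1 hinj)
  obtain ⟨u, hu⟩ := F.realise β
  set y := ((u : ↥G₀) : X)⁻¹ * y₀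
  refine ⟨y, fun h => hy₀ (by simpa [y] using mul_mem (u : ↥G₀).2 h), fun k hk => ?_⟩
  haveI := F.norm
  let conjU : ↥F.K →* ↥F.K := ((MulAut.conjNormal u⁻¹ : MulAut ↥F.K).toMonoidHom).comp αK
  have hconj : ∀ k : ↥F.K, (((conjU k : ↥(centralizer ({f a * f b} : Set ↥G₀))) : ↥G₀) : X) = y * (((k : ↥(centralizer ({f a * f b} : Set ↥G₀))) : ↥G₀) : X) * y⁻¹ := fun k => by
    simp [conjU, αK, αC, y, hα, mul_assoc]
  have hι : ∀ k, F.ι (conjU k) = F.ι k := fun k => by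
    refine β.injective ?_
    rw [← hu (conjU k)]
    show _ = β₀ (F.ι k)
    rw [hβ₀]
    refine congrArg F.ι (Subtype.ext ?_)
    simp [conjU, mul_assoc]
  have hcen : ∀ (k : ↥F.K) (g : ↥F.K), F.ι g = 1 → g * k = k * g := fun k g hg => Subtype.ext (Subtype.ext (by
    obtain ⟨j, hj⟩ := mem_zpowers_iff.1 ((F.ker g).1 hg)
    show ((g : ↥(centralizer ({f a * f b} : Set ↥G₀))) : ↥G₀) * ((k : ↥(centralizer ({f a * f b} : Set ↥G₀))) : ↥G₀) = ((k : ↥(centralizer ({f a * f b} : Set ↥G₀))) : ↥G₀) * ((g : ↥(centralizer ({f a * f b} : Set ↥G₀))) : ↥G₀)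
    rw [← hj]
    exact (Commute.zpow_left (mem_cent_iff.1 (k : ↥(centralizer ({f a * f b} : Set ↥G₀))).2).symm j).eq))
  have hd : ∀ k, F.ι (conjU k * k⁻¹) = 1 := fun k => by rw [map_mul, map_inv, hι, mul_inv_cancel]
  let δ : ↥F.K →* ↥(Subgroup.center ↥F.K) := MonoidHom.mk'
    (fun k => ⟨conjU k * k⁻¹, Subgroup.mem_center_iff.2 fun g => (hcen g _ (hd k)).symm⟩)
    fun k l => Subtype.ext (by
      show conjU (k * l) * (k * l)⁻¹ = conjU k * k⁻¹ * (conjU l * l⁻¹)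
      rw [mul_assoc (conjU k) k⁻¹, ← hcen k⁻¹ _ (hd l), map_mul, mul_inv_rev]
      simp only [mul_assoc])
  have hδ : commutator ↥F.K ≤ δ.ker := by
    rw [_root_.commutator_def, Subgroup.commutator_le]
    intro x _ w _
    rw [MonoidHom.mem_ker, map_commutatorElement, commutatorElement_eq_one_iff_mul_comm]
    exact Subtype.ext (Subgroup.mem_center_iff.1 (δ w).2 _)
  have h1 := hδ (show (⟨k, hk⟩ : ↥F.K) ∈ commutator ↥F.K from F.quasi.1.commutator_eq_top ▸ Subgroup.mem_top _)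
  have h2 : conjU ⟨k, hk⟩ = ⟨k, hk⟩ := mul_inv_eq_one.1 (congrArg Subtype.val (MonoidHom.mem_ker.1 h1))
  have h3 := hconj ⟨k, hk⟩
  rw [h2] at h3
  exact mul_inv_eq_iff_eq_mul.1 h3.symm

theorem outer_mul_t {y : X} (hy : H.Outer F y) : H.Outer F (y * ((f a * f b : ↥G₀) : X)) := by
  refine ⟨fun h => hy.1 (by simpa [mul_assoc] using mul_mem h (inv_mem (f a * f b).2)), fun k hk => ?_⟩
  have h1 := congrArg (Subtype.val : ↥G₀ → X) (mem_cent_iff.1 k.2)
  simp only [Subgroup.coe_mul] at h1 ⊢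
  calc y * (((f a : ↥G₀) : X) * ((f b : ↥G₀) : X)) * ((k : ↥G₀) : X)
      = y * (((k : ↥G₀) : X) * (((f a : ↥G₀) : X) * ((f b : ↥G₀) : X))) := by rw [h1]; group
    _ = _ := by rw [← mul_assoc, hy.2 k hk]; group

/-- Two adjacent duads share an outer element. -/
theorem exists_shared {c : GolayPt} (hab : a ≠ b) (hac : a ≠ c) (hbc : b ≠ c) (F' : Fi (f b * f c)) :
    ∃ y, H.Outer F y ∧ H.Outer F' y := by
  obtain ⟨y₁, h₁⟩ := H.exists_outer F
  obtain ⟨y₂, h₂⟩ := H.exists_outer F'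
  have hc1 := Outer.cent_A H F hab h₁
  have hc2 := Outer.cent_A H F' hbc h₂
  obtain ⟨x, hx, e⟩ := H.coset h₁.1 h₂.1 hc1 hc2
  have hfix : ∀ m : ↥(Subgroup.normalizer (A : Set ↥G₀)), ψ m a = a → ψ m b = b → ψ m c = c →
      (m : ↥G₀) * x * (m : ↥G₀)⁻¹ = x := fun m ha hb hc => by
    obtain ⟨_, k1⟩ := H.stab_inK F hab ha hb
    obtain ⟨_, k2⟩ := H.stab_inK F' hbc hb hc
    have a1 := h₁.2 _ k1
    have a2 := h₂.2 _ k2
    simp only at a1 a2
    refine Subtype.ext ?_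
    show ((m : ↥G₀) : X) * (x : X) * ((m : ↥G₀) : X)⁻¹ = (x : X)
    rw [show (x : X) = y₁⁻¹ * y₂ by rw [e]; group, mul_inv_eq_iff_eq_mul]
    calc ((m : ↥G₀) : X) * (y₁⁻¹ * y₂) = y₁⁻¹ * (y₁ * ((m : ↥G₀) : X)) * y₁⁻¹ * y₂ := by group
      _ = y₁⁻¹ * (((m : ↥G₀) : X) * y₂) := by rw [a1]; group
      _ = y₁⁻¹ * y₂ * ((m : ↥G₀) : X) := by rw [← a2]; group
  have tinv : ∀ p q' : GolayPt, ((f p * f q' : ↥G₀) : X) * ((f p * f q' : ↥G₀) : X) = 1 := fun p q' =>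
    congrArg (Subtype.val : ↥G₀ → X) (H.ctx.sq (H.duads.pair_A p q'))
  rcases H.duads.fixed_three hab hac hbc hx hfix with rfl | rfl | rfl | rfl
  · exact ⟨y₁, h₁, by rw [show y₁ = y₂ by rw [e]; simp]; exact h₂⟩
  · exact ⟨y₂, e ▸ H.outer_mul_t F h₁, h₂⟩
  · have := H.outer_mul_t F' h₂
    rw [e, mul_assoc, tinv, mul_one] at this
    exact ⟨y₁, h₁, this⟩
  · refine ⟨_, H.outer_mul_t F h₁, ?_⟩
    have h3 := H.outer_mul_t F' h₂
    rw [e, show ((f a * f c : ↥G₀) : X) = ((f a * f b : ↥G₀) : X) * ((f b * f c : ↥G₀) : X) from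
      congrArg (Subtype.val : ↥G₀ → X) (H.duads.tri a b c).symm] at h3
    rwa [mul_assoc, mul_assoc, tinv, mul_one] at h3

/-- An element shared by two adjacent duads is moved inside the centraliser of the first. -/
theorem shared_moved {c : GolayPt} (hab : a ≠ b) (hac : a ≠ c) (hbc : b ≠ c) (F' : Fi (f b * f c))
    {y : X} (hy : H.Outer F y) (hy' : H.Outer F' y) :
    ∃ u ∈ centralizer ({f a * f b} : Set ↥G₀), y * (u : X) ≠ (u : X) * y := by
  by_contra hcon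
  simp only [not_exists, not_and, not_not] at hcon
  let R : Subgroup ↥(Subgroup.normalizer (A : Set ↥G₀)) :=
    (centralizer ({y} : Set X)).comap (G₀.subtype.comp (Subgroup.subtype _))
  have hR : ∀ m, m ∈ R ↔ y * ((m : ↥G₀) : X) = ((m : ↥G₀) : X) * y := fun m => by
    rw [Subgroup.mem_comap, mem_centralizer_singleton_iff]
    exact eq_comm
  have r1 : ∀ m, ψ m a = a → ψ m b = b → m ∈ R := fun m ha hb => (hR m).2 (hcon _ (H.setwise_mem (.inl ⟨ha, hb⟩)))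
  have r2 : ∀ m, ψ m b = b → ψ m c = c → m ∈ R := fun m hb hc => by
    obtain ⟨_, k⟩ := H.stab_inK F' hbc hb hc
    exact (hR m).2 (hy'.2 _ k)
  obtain ⟨g, hg, gb, ga⟩ := CfsgLib.Golay.M24_map_two (Ne.symm hab) hab
  obtain ⟨σ, rfl⟩ := H.duads.exists_move hg
  have hσ : σ ∈ R := (hR σ).2 (hcon _ (H.setwise_mem (.inr ⟨ga, gb⟩)))
  -- a move of `a` fixing `b`
  have move : ∀ a' : GolayPt, a' ≠ b → ∃ m ∈ R, ψ m b = b ∧ ψ m a = a' := by
    have mv : ∀ a' : GolayPt, a' ≠ b → a' ≠ c → ∃ m ∈ R, ψ m b = b ∧ ψ m a = a' := fun a' hb' hc' => by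
      obtain ⟨g, hg, gb, gc, ga⟩ := CfsgLib.Golay.M24_map_three hbc (Ne.symm hab) (Ne.symm hac) hbc (Ne.symm hb')
        (Ne.symm hc')
      obtain ⟨m, rfl⟩ := H.duads.exists_move hg
      exact ⟨m, r2 m gb gc, gb, ga⟩
    intro a' hb'
    by_cases hc' : a' = c
    · subst hc'
      obtain ⟨d, hd⟩ := exists_avoid [a, b, a'] (by simp)
      simp only [List.mem_cons, List.not_mem_nil, or_false, not_or] at hd
      obtain ⟨m₁, hm₁, hb1, ha1⟩ := mv d hd.2.1 hd.2.2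
      obtain ⟨g, hg, gd, gb, ga⟩ := CfsgLib.Golay.M24_map_three hd.2.1 hd.1 (Ne.symm hab) hd.2.1 hd.2.2 hbc
      obtain ⟨w, rfl⟩ := H.duads.exists_move hg
      have hw : m₁⁻¹ * w * m₁ ∈ R := by
        refine r1 _ ?_ ?_ <;> simp only [map_mul, map_inv, Equiv.Perm.mul_apply]
        · rw [ha1, gd, Equiv.Perm.inv_eq_iff_eq, ha1]
        · rw [hb1, gb, Equiv.Perm.inv_eq_iff_eq, hb1]
      have hwR : w ∈ R := by
        have := R.mul_mem (R.mul_mem hm₁ hw) (R.inv_mem hm₁)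
        simpa [mul_assoc] using this
      exact ⟨w, hwR, gb, ga⟩
    · exact mv a' hb' hc'
  have fixb : ∀ m, ψ m b = b → m ∈ R := fun m hb => by
    have hne : ψ m a ≠ b := fun k => hab ((ψ m).injective (k.trans hb.symm))
    obtain ⟨w, hw, wb, wa⟩ := move _ hne
    have hr : w⁻¹ * m ∈ R := by
      refine r1 _ ?_ ?_ <;> simp only [map_mul, map_inv, Equiv.Perm.mul_apply, Equiv.Perm.inv_eq_iff_eq]
      · exact wa.symm
      · rw [hb, wb]
    simpa using R.mul_mem hw hr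
  refine H.no_fixed hy.1 (Outer.cent_A H F hab hy) fun m₀ hm₀ => (hR ⟨m₀, hm₀⟩).1 ?_
  set m : ↥(Subgroup.normalizer (A : Set ↥G₀)) := ⟨m₀, hm₀⟩
  by_cases hb : ψ m b = b
  · exact fixb m hb
  obtain ⟨w, hw, wb, wa⟩ := move _ hb
  have hr : σ⁻¹ * (w⁻¹ * m) ∈ R := by
    refine fixb _ ?_
    simp only [map_mul, map_inv, Equiv.Perm.mul_apply, Equiv.Perm.inv_eq_iff_eq]
    rw [gb, wa]
  have := R.mul_mem hw (R.mul_mem hσ hr)
  simpa using this

end Data

end CfsgLib.LargeFischer.Outer
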