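import Cfsg.Agent.Lib.LargeFischer.Outer.Duads

/-!
# A group with a subgroup of index two of large Fischer type: the extension of the elementary group `2^11`
-/

set_option autoImplicit false
set_option linter.unusedSectionVars false
set_option linter.style.haveILetI false
set_option maxHeartbeats 1000000

namespace CfsgLib.LargeFischer.Outer

open Subgroup QuadraticMap
open Cfsg (GolayPt)
open CfsgLib.Schur.Tails.UFour (H4)
open CfsgLib.LargeFischer.Thompson (Ctx Ns Zs val)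

variable {X : Type*} [Group X] [Finite X] {G₀ : Subgroup X} {z : ↥G₀}
  {Q : Subgroup (centralizer ({z} : Set ↥G₀))} [Q.Normal] {V : Type*} [AddCommGroup V] [Module (ZMod 2) V]
  [DistribMulAction ((centralizer ({z} : Set ↥G₀)) ⧸ Q) V] [Finite V] {q : QuadraticForm (ZMod 2) V} {π : ↥Q → V}
  {n : (centralizer ({z} : Set ↥G₀)) ⧸ Q} {M : Subgroup ((centralizer ({z} : Set ↥G₀)) ⧸ Q)} {φ : ↥M →* ↥H4}
  {s : V} {E : Subgroup ((centralizer ({z} : Set ↥G₀)) ⧸ Q)} {D : AddSubgroup V}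
  {A : Subgroup ↥G₀} {Ab : Subgroup ((centralizer ({z} : Set ↥G₀)) ⧸ Q)}

/-- The data: index two, the context in the subgroup, the labelling and the Fitting hypothesis in the whole. -/
structure Data (G₀ : Subgroup X) (z : ↥G₀) (Q : Subgroup (centralizer ({z} : Set ↥G₀))) [Q.Normal]
    {V : Type*} [AddCommGroup V] [Module (ZMod 2) V]
    [DistribMulAction ((centralizer ({z} : Set ↥G₀)) ⧸ Q) V] [Finite V] (q : QuadraticForm (ZMod 2) V) (π : ↥Q → V)
    (n : (centralizer ({z} : Set ↥G₀)) ⧸ Q) (M : Subgroup ((centralizer ({z} : Set ↥G₀)) ⧸ Q)) (φ : ↥M →* ↥H4)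
    (s : V) (E : Subgroup ((centralizer ({z} : Set ↥G₀)) ⧸ Q)) (D : AddSubgroup V) (A : Subgroup ↥G₀)
    (Ab : Subgroup ((centralizer ({z} : Set ↥G₀)) ⧸ Q)) (f : GolayPt → ↥G₀)
    (ψ : ↥(Subgroup.normalizer (A : Set ↥G₀)) →* Equiv.Perm GolayPt) : Prop where
  idx : G₀.index = 2
  ctx : Ctx Q q π n M φ s E D A Ab
  duads : Duads z A f ψ
  fit : (Cfsg.generalizedFittingSubgroup ↥(centralizer ({(z : X)} : Set X))).map (Subgroup.subtype _) =
    (Q.map (Subgroup.subtype _)).map G₀.subtype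

variable {f : GolayPt → ↥G₀} {ψ : ↥(Subgroup.normalizer (A : Set ↥G₀)) →* Equiv.Perm GolayPt}

namespace Data

variable (H : Data G₀ z Q q π n M φ s E D A Ab f ψ)
include H

theorem normal : G₀.Normal := Subgroup.normal_of_index_eq_two H.idx

theorem mul_mem_of {x y : X} (hx : x ∉ G₀) (hy : y ∉ G₀) : x * y ∈ G₀ :=
  (Subgroup.mul_mem_iff_of_index_two H.idx).2 (iff_of_false hx hy)

theorem exists_notMem : ∃ x : X, x ∉ G₀ := by
  by_contra h
  simp only [not_exists, not_not] at h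
  have := H.idx
  rw [(Subgroup.eq_top_iff' G₀).2 h, Subgroup.index_top] at this
  omega

/-- Conjugation in the subgroup of index two. -/
theorem conj_exists (x : X) : ∃ α : ↥G₀ ≃* ↥G₀, ∀ g : ↥G₀, ((α g : ↥G₀) : X) = x * g * x⁻¹ := by
  haveI := H.normal
  exact ⟨MulAut.conjNormal x, fun g => MulAut.conjNormal_apply x g⟩

/-- Some element outside normalises the elementary group. -/
theorem exists_normalizing : ∃ x : X, x ∉ G₀ ∧ ∀ a ∈ A, ∃ b ∈ A, x * (a : X) * x⁻¹ = b := by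
  haveI := Fact.mk Nat.prime_two
  obtain ⟨x, hx⟩ := H.exists_notMem
  obtain ⟨α, hα⟩ := H.conj_exists x
  obtain ⟨T, hT⟩ := (IsPGroup.of_card H.ctx.card).exists_le_sylow
  obtain ⟨U, hU⟩ := ((IsPGroup.of_card H.ctx.card).map α.toMonoidHom).exists_le_sylow
  obtain ⟨g, hg⟩ := MulAction.exists_smul_eq ↥G₀ U T
  have hle : (A.map α.toMonoidHom).map (MulAut.conj g).toMonoidHom ≤ (T : Subgroup ↥G₀) := by
    rintro _ ⟨b, hb, rfl⟩
    rw [← hg]
    exact Subgroup.smul_mem_pointwise_smul b (MulAut.conj g) (U : Subgroup ↥G₀) (hU hb)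
  have e := H.ctx.uniq _ _ (Thompson.elem_map' _ (Thompson.elem_map' _ H.ctx.elem))
    (by rw [card_map_of_injective (MulEquiv.injective _), card_map_of_injective (MulEquiv.injective _), H.ctx.card])
    T.2 hT hle
  refine ⟨(g : X) * x, fun h => hx ?_, fun a ha => ⟨g * α a * g⁻¹, ?_, ?_⟩⟩
  · simpa using mul_mem (inv_mem g.2) h
  · rw [← e]
    exact ⟨α a, ⟨a, ha, rfl⟩, rfl⟩
  · simp only [Subgroup.coe_mul, InvMemClass.coe_inv, hα]
    group

theorem isConj_conj {α : ↥G₀ ≃* ↥G₀} {a b : ↥G₀} (h : IsConj a b) : IsConj (α a) (α b) := by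
  obtain ⟨g, hg⟩ := isConj_iff.1 h
  exact isConj_iff.2 ⟨α g, by rw [← hg, map_mul, map_mul, map_inv]⟩

/-- An automorphism keeping `A` keeps the class of the non-central involutions in it. -/
theorem Ns_stable (α : ↥G₀ ≃* ↥G₀) (hα : ∀ a, α a ∈ A ↔ a ∈ A) {a : ↥G₀} (ha : a ∈ Ns z A) : α a ∈ Ns z A := by
  refine ⟨(hα a).2 ha.1, fun e => ha.2.1 ((map_eq_one_iff α α.injective).1 e), fun hz => ?_⟩
  have hsub : Zs z A ⊆ α '' Ns z A := fun w hw => by
    refine ⟨α.symm w, ⟨(hα _).1 (by rw [α.apply_symm_apply]; exact hw.1), fun e => ?_, fun hzw => ?_⟩,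
      α.apply_symm_apply w⟩
    · have hw1 : w = 1 := by simpa using congrArg α e
      exact H.ctx.not_isConj_one (hw1 ▸ hw.2)
    · have h1 : IsConj (α a) w := hz.symm.trans hw.2
      have h2 := H.isConj_conj (α := α.symm) h1
      rw [α.symm_apply_apply] at h2
      exact ha.2.2 (hzw.trans h2.symm)
  have := Set.ncard_le_ncard hsub (Set.toFinite _)
  rw [H.ctx.Zs_facts.1, Set.ncard_image_of_injective _ α.injective, H.ctx.Ns_counts.1] at this
  omega

/-- Some element outside centralises the elementary group. -/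
theorem exists_outer_cent : ∃ y : X, y ∉ G₀ ∧ ∀ a ∈ A, y * (a : X) = (a : X) * y := by
  obtain ⟨x, hx, hxA⟩ := H.exists_normalizing
  obtain ⟨α, hα⟩ := H.conj_exists x
  have hαA : ∀ a ∈ A, α a ∈ A := fun a ha => by
    obtain ⟨b, hb, e⟩ := hxA a ha
    rwa [show α a = b from Subtype.ext ((hα a).trans e)]
  have hmap : A.map α.toMonoidHom = A := Subgroup.eq_of_le_of_card_ge
    (by rintro _ ⟨a, ha, rfl⟩; exact hαA a ha) (by rw [card_map_of_injective (MulEquiv.injective α)])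
  have hiff : ∀ a, α a ∈ A ↔ a ∈ A := fun a => ⟨fun h => by
    rw [← hmap] at h
    obtain ⟨b, hb, e⟩ := h
    rwa [← α.injective e], hαA a⟩
  let β : ↥A ≃* ↥A := (α.subgroupMap A).trans (MulEquiv.subgroupCongr hmap)
  have hβ : ∀ a : ↥A, (β a : ↥G₀) = α a := fun a => rfl
  have hiff' : ∀ a, α.symm a ∈ A ↔ a ∈ A := fun a => by rw [← hiff (α.symm a), α.apply_symm_apply]
  obtain ⟨m, hm, hmeq⟩ := H.duads.aut β fun a => by
    rw [hβ]
    exact ⟨fun h => by simpa using H.Ns_stable α.symm hiff' h, fun h => H.Ns_stable α hiff h⟩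
  refine ⟨(m : X)⁻¹ * x, fun h => hx (by simpa using mul_mem m.2 h), fun a ha => ?_⟩
  have e := congrArg (Subtype.val : ↥G₀ → X) (hmeq ⟨a, ha⟩)
  rw [hβ, hα] at e
  simp only [Subgroup.coe_mul, InvMemClass.coe_inv] at e
  calc (m : X)⁻¹ * x * (a : X) = (m : X)⁻¹ * (x * (a : X) * x⁻¹) * x := by group
    _ = (a : X) * ((m : X)⁻¹ * x) := by rw [e]; group

/-- Two outer elements centralising `A` differ by an element of `A`. -/
theorem coset {y y' : X} (hy : y ∉ G₀) (hy' : y' ∉ G₀) (hc : ∀ a ∈ A, y * (a : X) = (a : X) * y)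
    (hc' : ∀ a ∈ A, y' * (a : X) = (a : X) * y') : ∃ a ∈ A, y' = y * (a : X) := by
  refine ⟨⟨y⁻¹ * y', H.mul_mem_of (fun h => hy (by simpa using inv_mem h)) hy'⟩, ?_, by
    show y' = y * (y⁻¹ * y'); group⟩
  refine H.ctx.cent fun a ha => Subtype.ext ?_
  show y⁻¹ * y' * (a : X) = (a : X) * (y⁻¹ * y')
  calc y⁻¹ * y' * (a : X) = y⁻¹ * ((a : X) * y') := by rw [← hc' a ha]; group
    _ = y⁻¹ * ((a : X) * y) * y⁻¹ * y' := by group
    _ = (a : X) * (y⁻¹ * y') := by rw [← hc a ha]; group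

/-- Conjugating by the normaliser keeps the set of outer elements centralising `A`. -/
theorem conj_cent {y : X} (hy : y ∉ G₀) (hc : ∀ a ∈ A, y * (a : X) = (a : X) * y) {m : ↥G₀}
    (hm : m ∈ Subgroup.normalizer (A : Set ↥G₀)) :
    (m : X) * y * (m : X)⁻¹ ∉ G₀ ∧ ∀ a ∈ A, (m : X) * y * (m : X)⁻¹ * (a : X) = (a : X) * ((m : X) * y * (m : X)⁻¹) := by
  refine ⟨fun h => hy ?_, fun a ha => ?_⟩
  · simpa [mul_assoc] using mul_mem (mul_mem (inv_mem m.2) h) m.2
  · have hb := hc _ (H.ctx.conj_mem (inv_mem hm) ha)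
    simp only [Subgroup.coe_mul, InvMemClass.coe_inv, inv_inv] at hb
    calc (m : X) * y * (m : X)⁻¹ * (a : X) = (m : X) * (y * ((m : X)⁻¹ * (a : X) * (m : X))) * (m : X)⁻¹ := by group
      _ = _ := by rw [hb]; group

/-- An element of `A` fixed by the normaliser is trivial. -/
theorem fixed_one {a : ↥G₀} (ha : a ∈ A)
    (h : ∀ m ∈ Subgroup.normalizer (A : Set ↥G₀), m * a * m⁻¹ = a) : a = 1 := by
  by_contra h1
  have key : ∀ S : Set ↥G₀, 2 ≤ S.ncard → a ∈ S →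
      (∀ w ∈ S, ∃ m ∈ Subgroup.normalizer (A : Set ↥G₀), m * a * m⁻¹ = w) → False := fun S hS hmem htr => by
    obtain ⟨w, hw, hne⟩ := Set.exists_ne_of_one_lt_ncard (show 1 < S.ncard by omega) a
    obtain ⟨m, hm, e⟩ := htr w hw
    exact hne (e ▸ h m hm)
  by_cases hz : IsConj z a
  · refine key (Zs z A) (by rw [H.ctx.Zs_facts.1]; norm_num) ⟨ha, hz⟩ fun w hw => ?_
    obtain ⟨g, hg⟩ := isConj_iff.1 (hz.symm.trans hw.2)
    obtain ⟨m, hm, e⟩ := H.ctx.fusion ha (hg ▸ hw.1)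
    exact ⟨m, hm, e.trans hg⟩
  · exact key (Ns z A) (by rw [H.ctx.Ns_counts.1]; norm_num) ⟨ha, h1, hz⟩ fun w hw =>
      H.ctx.Ns_trans ⟨ha, h1, hz⟩ hw

/-- The outer elements centralising `A` are involutions. -/
theorem outer_sq {y : X} (hy : y ∉ G₀) (hc : ∀ a ∈ A, y * (a : X) = (a : X) * y) : y * y = 1 := by
  have hmem : (⟨y * y, H.mul_mem_of hy hy⟩ : ↥G₀) ∈ A := H.ctx.cent fun a ha => Subtype.ext (by
    show y * y * (a : X) = (a : X) * (y * y)
    rw [mul_assoc, hc a ha, ← mul_assoc, hc a ha, mul_assoc])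
  refine congrArg (Subtype.val : ↥G₀ → X) (H.fixed_one hmem fun m hm => Subtype.ext ?_)
  obtain ⟨h1, h2⟩ := H.conj_cent hy hc hm
  obtain ⟨a, ha, e⟩ := H.coset hy h1 hc h2
  have haa : (a : X) * (a : X) = 1 := congrArg (Subtype.val : ↥G₀ → X) (H.ctx.sq ha)
  show (m : X) * (y * y) * (m : X)⁻¹ = y * y
  calc (m : X) * (y * y) * (m : X)⁻¹ = ((m : X) * y * (m : X)⁻¹) * ((m : X) * y * (m : X)⁻¹) := by group
    _ = y * ((a : X) * y) * (a : X) := by rw [e]; group
    _ = y * y * ((a : X) * (a : X)) := by rw [← hc a ha]; group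
    _ = y * y := by rw [haa, mul_one]

/-- No outer element centralising `A` commutes with its normaliser. -/
theorem no_fixed {y : X} (hy : y ∉ G₀) (hc : ∀ a ∈ A, y * (a : X) = (a : X) * y)
    (hN : ∀ m ∈ Subgroup.normalizer (A : Set ↥G₀), y * (m : X) = (m : X) * y) : False := by
  have hyz : y ∈ centralizer ({(z : X)} : Set X) := mem_centralizer_singleton_iff.2 (hc z H.ctx.z_mem)
  refine hy ?_
  have h : (⟨y, hyz⟩ : ↥(centralizer ({(z : X)} : Set X))) ∈
      Cfsg.generalizedFittingSubgroup ↥(centralizer ({(z : X)} : Set X)) := by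
    refine CfsgLib.Cores.centralizer_generalizedFittingSubgroup_le (mem_centralizer_iff.2 fun w hw => ?_)
    have hw' : (w : X) ∈ (Q.map (Subgroup.subtype _)).map G₀.subtype := H.fit ▸ ⟨w, hw, rfl⟩
    obtain ⟨_, ⟨u, hu, rfl⟩, e⟩ := hw'
    refine Subtype.ext ?_
    show (w : X) * y = y * (w : X)
    rw [← e]
    exact (hN _ (H.ctx.q_mem_N ⟨u, hu⟩)).symm
  have h2 : y ∈ (Q.map (Subgroup.subtype _)).map G₀.subtype := H.fit ▸ ⟨⟨y, hyz⟩, h, rfl⟩
  obtain ⟨w, -, e⟩ := h2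
  exact e ▸ w.2

end Data

end CfsgLib.LargeFischer.Outer
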